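import Cfsg.Agent.H1.HdTS.D

/-! Generated by tools/h16 (computation kit). -/

set_option maxRecDepth 100000
set_option maxHeartbeats 0

namespace H1.HdT.S

open H16

theorem tcb14e_6_0 : allZ (ent2 Tb14 Eb14 (selR RLb14 Ib14) Db14 (nat_lit 32767) (nat_lit 29155) (nat_lit 29155) (nat_lit 30834) (nat_lit 14) (nat_lit 524287) (nat_lit 3) (nat_lit 6)) (nat_lit 0) (nat_lit 11840) = true := by decide +kernel
theorem tcb14e_6_1 : allZ (ent2 Tb14 Eb14 (selR RLb14 Ib14) Db14 (nat_lit 32767) (nat_lit 29155) (nat_lit 29155) (nat_lit 30834) (nat_lit 14) (nat_lit 524287) (nat_lit 3) (nat_lit 6)) (nat_lit 11840) (nat_lit 11840) = true := by decide +kernel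
theorem tcb14e_6_2 : allZ (ent2 Tb14 Eb14 (selR RLb14 Ib14) Db14 (nat_lit 32767) (nat_lit 29155) (nat_lit 29155) (nat_lit 30834) (nat_lit 14) (nat_lit 524287) (nat_lit 3) (nat_lit 6)) (nat_lit 23680) (nat_lit 7154) = true := by decide +kernel
theorem tcb14e_7_0 : allZ (ent2 Tb14 Eb14 (selR RLb14 Ib14) Db14 (nat_lit 32767) (nat_lit 29155) (nat_lit 29155) (nat_lit 30834) (nat_lit 14) (nat_lit 524287) (nat_lit 3) (nat_lit 7)) (nat_lit 0) (nat_lit 11840) = true := by decide +kernel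
theorem tcb14e_7_1 : allZ (ent2 Tb14 Eb14 (selR RLb14 Ib14) Db14 (nat_lit 32767) (nat_lit 29155) (nat_lit 29155) (nat_lit 30834) (nat_lit 14) (nat_lit 524287) (nat_lit 3) (nat_lit 7)) (nat_lit 11840) (nat_lit 11840) = true := by decide +kernel
theorem tcb14e_7_2 : allZ (ent2 Tb14 Eb14 (selR RLb14 Ib14) Db14 (nat_lit 32767) (nat_lit 29155) (nat_lit 29155) (nat_lit 30834) (nat_lit 14) (nat_lit 524287) (nat_lit 3) (nat_lit 7)) (nat_lit 23680) (nat_lit 7154) = true := by decide +kernel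
theorem tcb14e_8_0 : allZ (ent2 Tb14 Eb14 (selR RLb14 Ib14) Db14 (nat_lit 32767) (nat_lit 29155) (nat_lit 29155) (nat_lit 30834) (nat_lit 14) (nat_lit 524287) (nat_lit 3) (nat_lit 8)) (nat_lit 0) (nat_lit 11776) = true := by decide +kernel
theorem tcb14e_8_1 : allZ (ent2 Tb14 Eb14 (selR RLb14 Ib14) Db14 (nat_lit 32767) (nat_lit 29155) (nat_lit 29155) (nat_lit 30834) (nat_lit 14) (nat_lit 524287) (nat_lit 3) (nat_lit 8)) (nat_lit 11776) (nat_lit 11776) = true := by decide +kernel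
theorem tcb14e_8_2 : allZ (ent2 Tb14 Eb14 (selR RLb14 Ib14) Db14 (nat_lit 32767) (nat_lit 29155) (nat_lit 29155) (nat_lit 30834) (nat_lit 14) (nat_lit 524287) (nat_lit 3) (nat_lit 8)) (nat_lit 23552) (nat_lit 7282) = true := by decide +kernel
theorem tcb14e_9_0 : allZ (ent2 Tb14 Eb14 (selR RLb14 Ib14) Db14 (nat_lit 32767) (nat_lit 29155) (nat_lit 29155) (nat_lit 30834) (nat_lit 14) (nat_lit 524287) (nat_lit 3) (nat_lit 9)) (nat_lit 0) (nat_lit 11712) = true := by decide +kernel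
theorem tcb14e_9_1 : allZ (ent2 Tb14 Eb14 (selR RLb14 Ib14) Db14 (nat_lit 32767) (nat_lit 29155) (nat_lit 29155) (nat_lit 30834) (nat_lit 14) (nat_lit 524287) (nat_lit 3) (nat_lit 9)) (nat_lit 11712) (nat_lit 11712) = true := by decide +kernel
theorem tcb14e_9_2 : allZ (ent2 Tb14 Eb14 (selR RLb14 Ib14) Db14 (nat_lit 32767) (nat_lit 29155) (nat_lit 29155) (nat_lit 30834) (nat_lit 14) (nat_lit 524287) (nat_lit 3) (nat_lit 9)) (nat_lit 23424) (nat_lit 7410) = true := by decide +kernel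
theorem tcb14e_10_0 : allZ (ent2 Tb14 Eb14 (selR RLb14 Ib14) Db14 (nat_lit 32767) (nat_lit 29155) (nat_lit 29155) (nat_lit 30834) (nat_lit 14) (nat_lit 524287) (nat_lit 3) (nat_lit 10)) (nat_lit 0) (nat_lit 11968) = true := by decide +kernel
theorem tcb14e_10_1 : allZ (ent2 Tb14 Eb14 (selR RLb14 Ib14) Db14 (nat_lit 32767) (nat_lit 29155) (nat_lit 29155) (nat_lit 30834) (nat_lit 14) (nat_lit 524287) (nat_lit 3) (nat_lit 10)) (nat_lit 11968) (nat_lit 11968) = true := by decide +kernel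
theorem tcb14e_10_2 : allZ (ent2 Tb14 Eb14 (selR RLb14 Ib14) Db14 (nat_lit 32767) (nat_lit 29155) (nat_lit 29155) (nat_lit 30834) (nat_lit 14) (nat_lit 524287) (nat_lit 3) (nat_lit 10)) (nat_lit 23936) (nat_lit 6898) = true := by decide +kernel
theorem tcb14e_11_0 : allZ (ent2 Tb14 Eb14 (selR RLb14 Ib14) Db14 (nat_lit 32767) (nat_lit 29155) (nat_lit 29155) (nat_lit 30834) (nat_lit 14) (nat_lit 524287) (nat_lit 3) (nat_lit 11)) (nat_lit 0) (nat_lit 11264) = true := by decide +kernel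
theorem tcb14e_11_1 : allZ (ent2 Tb14 Eb14 (selR RLb14 Ib14) Db14 (nat_lit 32767) (nat_lit 29155) (nat_lit 29155) (nat_lit 30834) (nat_lit 14) (nat_lit 524287) (nat_lit 3) (nat_lit 11)) (nat_lit 11264) (nat_lit 11264) = true := by decide +kernel
theorem tcb14e_11_2 : allZ (ent2 Tb14 Eb14 (selR RLb14 Ib14) Db14 (nat_lit 32767) (nat_lit 29155) (nat_lit 29155) (nat_lit 30834) (nat_lit 14) (nat_lit 524287) (nat_lit 3) (nat_lit 11)) (nat_lit 22528) (nat_lit 8306) = true := by decide +kernel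

end H1.HdT.S
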