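import Cfsg.Agent.H1.HdTS.D

/-! Generated by tools/h16 (computation kit). -/

set_option maxRecDepth 100000
set_option maxHeartbeats 0

namespace H1.HdT.S

open H16

theorem ivc : ivChk Rl (nat_lit 14) = true := by decide +kernel
theorem app : H1.HdT.RB ++ Rl.drop 69 = Rl := by decide +kernel
theorem tcb12e_a : allZ2 (ent2 Tb12 Eb12 (selR RLb12 Ib12) Db12 (nat_lit 3) (nat_lit 3) (nat_lit 3) (nat_lit 3) (nat_lit 12) (nat_lit 63) (nat_lit 0)) (nat_lit 12) (nat_lit 3) = true := by decide +kernel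
theorem tcb12p_0 : allZ (eps2 Tb12 Eb12 Jb12 Wb12 RLb12 (nat_lit 3) (nat_lit 3) (nat_lit 3) (nat_lit 12) (nat_lit 0)) (nat_lit 0) (nat_lit 0) = true := by decide +kernel
theorem tcb12r : rulesChk Rl cb12.Sl RLb12 (nat_lit 12) = true := by decide +kernel
theorem tcb12n : 0 < cb12.M ∧ cb12.n0 ≤ cb12.M ∧ 0 < cb12.K ∧ cb12.K ≤ 14 ∧ cb12.D 0 = 0 := by decide +kernel
theorem tcb12q : cb12.M - cb12.n = 0 := by decide +kernel
theorem stb12 : allL (ltAll 11) cb12.Sl = true ∧ 0 < cb12.n0 ∧ cb12.K = 12 ∧ cb12.n0 * 3072 = 9216 := by decide +kernel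
theorem tcb13e_a : allZ2 (ent2 Tb13 Eb13 (selR RLb13 Ib13) Db13 (nat_lit 15) (nat_lit 15) (nat_lit 15) (nat_lit 15) (nat_lit 13) (nat_lit 255) (nat_lit 0)) (nat_lit 13) (nat_lit 15) = true := by decide +kernel
theorem tcb13p_0 : allZ (eps2 Tb13 Eb13 Jb13 Wb13 RLb13 (nat_lit 15) (nat_lit 15) (nat_lit 15) (nat_lit 13) (nat_lit 0)) (nat_lit 0) (nat_lit 0) = true := by decide +kernel
theorem tcb13r : rulesChk Rl cb13.Sl RLb13 (nat_lit 13) = true := by decide +kernel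
theorem tcb13n : 0 < cb13.M ∧ cb13.n0 ≤ cb13.M ∧ 0 < cb13.K ∧ cb13.K ≤ 14 ∧ cb13.D 0 = 0 := by decide +kernel
theorem tcb13q : cb13.M - cb13.n = 0 := by decide +kernel
theorem stb13 : allL (ltAll 12) cb13.Sl = true ∧ 0 < cb13.n0 ∧ cb13.K = 13 ∧ cb13.n0 * 9216 = 138240 := by decide +kernel
theorem tcb14e_0_0 : allZ (ent2 Tb14 Eb14 (selR RLb14 Ib14) Db14 (nat_lit 32767) (nat_lit 29155) (nat_lit 29155) (nat_lit 30834) (nat_lit 14) (nat_lit 524287) (nat_lit 3) (nat_lit 0)) (nat_lit 0) (nat_lit 11904) = true := by decide +kernel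
theorem tcb14e_0_1 : allZ (ent2 Tb14 Eb14 (selR RLb14 Ib14) Db14 (nat_lit 32767) (nat_lit 29155) (nat_lit 29155) (nat_lit 30834) (nat_lit 14) (nat_lit 524287) (nat_lit 3) (nat_lit 0)) (nat_lit 11904) (nat_lit 11904) = true := by decide +kernel
theorem tcb14e_0_2 : allZ (ent2 Tb14 Eb14 (selR RLb14 Ib14) Db14 (nat_lit 32767) (nat_lit 29155) (nat_lit 29155) (nat_lit 30834) (nat_lit 14) (nat_lit 524287) (nat_lit 3) (nat_lit 0)) (nat_lit 23808) (nat_lit 7026) = true := by decide +kernel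
theorem tcb14e_1_0 : allZ (ent2 Tb14 Eb14 (selR RLb14 Ib14) Db14 (nat_lit 32767) (nat_lit 29155) (nat_lit 29155) (nat_lit 30834) (nat_lit 14) (nat_lit 524287) (nat_lit 3) (nat_lit 1)) (nat_lit 0) (nat_lit 11840) = true := by decide +kernel
theorem tcb14e_1_1 : allZ (ent2 Tb14 Eb14 (selR RLb14 Ib14) Db14 (nat_lit 32767) (nat_lit 29155) (nat_lit 29155) (nat_lit 30834) (nat_lit 14) (nat_lit 524287) (nat_lit 3) (nat_lit 1)) (nat_lit 11840) (nat_lit 11840) = true := by decide +kernel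
theorem tcb14e_1_2 : allZ (ent2 Tb14 Eb14 (selR RLb14 Ib14) Db14 (nat_lit 32767) (nat_lit 29155) (nat_lit 29155) (nat_lit 30834) (nat_lit 14) (nat_lit 524287) (nat_lit 3) (nat_lit 1)) (nat_lit 23680) (nat_lit 7154) = true := by decide +kernel
theorem tcb14e_2_0 : allZ (ent2 Tb14 Eb14 (selR RLb14 Ib14) Db14 (nat_lit 32767) (nat_lit 29155) (nat_lit 29155) (nat_lit 30834) (nat_lit 14) (nat_lit 524287) (nat_lit 3) (nat_lit 2)) (nat_lit 0) (nat_lit 11840) = true := by decide +kernel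
theorem tcb14e_2_1 : allZ (ent2 Tb14 Eb14 (selR RLb14 Ib14) Db14 (nat_lit 32767) (nat_lit 29155) (nat_lit 29155) (nat_lit 30834) (nat_lit 14) (nat_lit 524287) (nat_lit 3) (nat_lit 2)) (nat_lit 11840) (nat_lit 11840) = true := by decide +kernel
theorem tcb14e_2_2 : allZ (ent2 Tb14 Eb14 (selR RLb14 Ib14) Db14 (nat_lit 32767) (nat_lit 29155) (nat_lit 29155) (nat_lit 30834) (nat_lit 14) (nat_lit 524287) (nat_lit 3) (nat_lit 2)) (nat_lit 23680) (nat_lit 7154) = true := by decide +kernel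
theorem tcb14e_3_0 : allZ (ent2 Tb14 Eb14 (selR RLb14 Ib14) Db14 (nat_lit 32767) (nat_lit 29155) (nat_lit 29155) (nat_lit 30834) (nat_lit 14) (nat_lit 524287) (nat_lit 3) (nat_lit 3)) (nat_lit 0) (nat_lit 11520) = true := by decide +kernel
theorem tcb14e_3_1 : allZ (ent2 Tb14 Eb14 (selR RLb14 Ib14) Db14 (nat_lit 32767) (nat_lit 29155) (nat_lit 29155) (nat_lit 30834) (nat_lit 14) (nat_lit 524287) (nat_lit 3) (nat_lit 3)) (nat_lit 11520) (nat_lit 11520) = true := by decide +kernel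
theorem tcb14e_3_2 : allZ (ent2 Tb14 Eb14 (selR RLb14 Ib14) Db14 (nat_lit 32767) (nat_lit 29155) (nat_lit 29155) (nat_lit 30834) (nat_lit 14) (nat_lit 524287) (nat_lit 3) (nat_lit 3)) (nat_lit 23040) (nat_lit 7794) = true := by decide +kernel
theorem tcb14e_4_0 : allZ (ent2 Tb14 Eb14 (selR RLb14 Ib14) Db14 (nat_lit 32767) (nat_lit 29155) (nat_lit 29155) (nat_lit 30834) (nat_lit 14) (nat_lit 524287) (nat_lit 3) (nat_lit 4)) (nat_lit 0) (nat_lit 11776) = true := by decide +kernel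
theorem tcb14e_4_1 : allZ (ent2 Tb14 Eb14 (selR RLb14 Ib14) Db14 (nat_lit 32767) (nat_lit 29155) (nat_lit 29155) (nat_lit 30834) (nat_lit 14) (nat_lit 524287) (nat_lit 3) (nat_lit 4)) (nat_lit 11776) (nat_lit 11776) = true := by decide +kernel
theorem tcb14e_4_2 : allZ (ent2 Tb14 Eb14 (selR RLb14 Ib14) Db14 (nat_lit 32767) (nat_lit 29155) (nat_lit 29155) (nat_lit 30834) (nat_lit 14) (nat_lit 524287) (nat_lit 3) (nat_lit 4)) (nat_lit 23552) (nat_lit 7282) = true := by decide +kernel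
theorem tcb14e_5_0 : allZ (ent2 Tb14 Eb14 (selR RLb14 Ib14) Db14 (nat_lit 32767) (nat_lit 29155) (nat_lit 29155) (nat_lit 30834) (nat_lit 14) (nat_lit 524287) (nat_lit 3) (nat_lit 5)) (nat_lit 0) (nat_lit 11456) = true := by decide +kernel
theorem tcb14e_5_1 : allZ (ent2 Tb14 Eb14 (selR RLb14 Ib14) Db14 (nat_lit 32767) (nat_lit 29155) (nat_lit 29155) (nat_lit 30834) (nat_lit 14) (nat_lit 524287) (nat_lit 3) (nat_lit 5)) (nat_lit 11456) (nat_lit 11456) = true := by decide +kernel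
theorem tcb14e_5_2 : allZ (ent2 Tb14 Eb14 (selR RLb14 Ib14) Db14 (nat_lit 32767) (nat_lit 29155) (nat_lit 29155) (nat_lit 30834) (nat_lit 14) (nat_lit 524287) (nat_lit 3) (nat_lit 5)) (nat_lit 22912) (nat_lit 7922) = true := by decide +kernel

end H1.HdT.S
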