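import Cfsg.Agent.H1.HdT0
import Cfsg.Agent.H1.HdTS.R0
import Cfsg.Agent.H1.HdTS.R1

/-! Generated by tools/h16 (computation kit). -/

set_option maxRecDepth 100000
set_option maxHeartbeats 0

namespace H1.HdT.S

open H16

noncomputable def Rl : List (List ℕ) := [[nat_lit 0, nat_lit 0],
  [nat_lit 1, nat_lit 1],
  [nat_lit 2, nat_lit 2],
  [nat_lit 3, nat_lit 3],
  [nat_lit 4, nat_lit 4],
  [nat_lit 5, nat_lit 5],
  [nat_lit 6, nat_lit 6],
  [nat_lit 7, nat_lit 7],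
  [nat_lit 8, nat_lit 8],
  [nat_lit 9, nat_lit 9],
  [nat_lit 10, nat_lit 10],
  [nat_lit 11, nat_lit 11],
  [nat_lit 12, nat_lit 12],
  [nat_lit 13, nat_lit 13],
  [nat_lit 1, nat_lit 0, nat_lit 1, nat_lit 0],
  [nat_lit 2, nat_lit 0, nat_lit 2, nat_lit 0],
  [nat_lit 3, nat_lit 0, nat_lit 3, nat_lit 0],
  [nat_lit 4, nat_lit 0, nat_lit 4, nat_lit 0],
  [nat_lit 5, nat_lit 0, nat_lit 5, nat_lit 0],
  [nat_lit 6, nat_lit 0, nat_lit 6, nat_lit 0],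
  [nat_lit 7, nat_lit 0, nat_lit 7, nat_lit 0],
  [nat_lit 8, nat_lit 0, nat_lit 8, nat_lit 0],
  [nat_lit 9, nat_lit 0, nat_lit 9, nat_lit 0],
  [nat_lit 2, nat_lit 1, nat_lit 2, nat_lit 1],
  [nat_lit 3, nat_lit 1, nat_lit 3, nat_lit 1],
  [nat_lit 4, nat_lit 1, nat_lit 4, nat_lit 1],
  [nat_lit 5, nat_lit 1, nat_lit 5, nat_lit 1],
  [nat_lit 6, nat_lit 1, nat_lit 6, nat_lit 1],
  [nat_lit 7, nat_lit 1, nat_lit 7, nat_lit 1],
  [nat_lit 8, nat_lit 1, nat_lit 8, nat_lit 1],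
  [nat_lit 0, nat_lit 9, nat_lit 1, nat_lit 9, nat_lit 1],
  [nat_lit 3, nat_lit 2, nat_lit 3, nat_lit 2],
  [nat_lit 4, nat_lit 2, nat_lit 4, nat_lit 2],
  [nat_lit 5, nat_lit 2, nat_lit 5, nat_lit 2],
  [nat_lit 0, nat_lit 6, nat_lit 2, nat_lit 6, nat_lit 2],
  [nat_lit 7, nat_lit 2, nat_lit 7, nat_lit 2],
  [nat_lit 8, nat_lit 2, nat_lit 8, nat_lit 2],
  [nat_lit 9, nat_lit 2, nat_lit 9, nat_lit 2],
  [nat_lit 4, nat_lit 3, nat_lit 4, nat_lit 3],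
  [nat_lit 0, nat_lit 5, nat_lit 3, nat_lit 5, nat_lit 3],
  [nat_lit 6, nat_lit 3, nat_lit 6, nat_lit 3],
  [nat_lit 7, nat_lit 3, nat_lit 7, nat_lit 3],
  [nat_lit 1, nat_lit 8, nat_lit 3, nat_lit 8, nat_lit 3],
  [nat_lit 9, nat_lit 3, nat_lit 9, nat_lit 3],
  [nat_lit 5, nat_lit 4, nat_lit 5, nat_lit 4],
  [nat_lit 1, nat_lit 6, nat_lit 4, nat_lit 6, nat_lit 4],
  [nat_lit 7, nat_lit 4, nat_lit 7, nat_lit 4],
  [nat_lit 8, nat_lit 4, nat_lit 8, nat_lit 4],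
  [nat_lit 2, nat_lit 9, nat_lit 4, nat_lit 9, nat_lit 4],
  [nat_lit 6, nat_lit 5, nat_lit 6, nat_lit 5],
  [nat_lit 2, nat_lit 7, nat_lit 5, nat_lit 7, nat_lit 5],
  [nat_lit 8, nat_lit 5, nat_lit 8, nat_lit 5],
  [nat_lit 9, nat_lit 5, nat_lit 9, nat_lit 5],
  [nat_lit 3, nat_lit 7, nat_lit 6, nat_lit 7, nat_lit 6],
  [nat_lit 8, nat_lit 6, nat_lit 8, nat_lit 6],
  [nat_lit 9, nat_lit 6, nat_lit 9, nat_lit 6],
  [nat_lit 4, nat_lit 8, nat_lit 7, nat_lit 8, nat_lit 7],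
  [nat_lit 9, nat_lit 7, nat_lit 9, nat_lit 7],
  [nat_lit 5, nat_lit 9, nat_lit 8, nat_lit 9, nat_lit 8],
  [nat_lit 0, nat_lit 10, nat_lit 0, nat_lit 10],
  [nat_lit 1, nat_lit 3, nat_lit 10, nat_lit 1, nat_lit 10],
  [nat_lit 2, nat_lit 10, nat_lit 2, nat_lit 10],
  [nat_lit 3, nat_lit 10, nat_lit 3, nat_lit 10],
  [nat_lit 4, nat_lit 7, nat_lit 10, nat_lit 4, nat_lit 10],
  [nat_lit 5, nat_lit 9, nat_lit 10, nat_lit 5, nat_lit 10],
  [nat_lit 6, nat_lit 10, nat_lit 6, nat_lit 10],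
  [nat_lit 7, nat_lit 10, nat_lit 7, nat_lit 10],
  [nat_lit 9, nat_lit 10, nat_lit 9, nat_lit 10],
  [nat_lit 10, nat_lit 8, nat_lit 10, nat_lit 8, nat_lit 10, nat_lit 8],
  [nat_lit 11, nat_lit 0, nat_lit 11, nat_lit 0, nat_lit 2],
  [nat_lit 11, nat_lit 1, nat_lit 11, nat_lit 1, nat_lit 4],
  [nat_lit 11, nat_lit 2, nat_lit 11, nat_lit 2],
  [nat_lit 11, nat_lit 3, nat_lit 11, nat_lit 3, nat_lit 7],
  [nat_lit 11, nat_lit 4, nat_lit 11, nat_lit 4],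
  [nat_lit 11, nat_lit 5, nat_lit 11, nat_lit 2, nat_lit 4, nat_lit 5],
  [nat_lit 11, nat_lit 7, nat_lit 11, nat_lit 7],
  [nat_lit 11, nat_lit 8, nat_lit 11, nat_lit 2, nat_lit 8],
  [nat_lit 11, nat_lit 9, nat_lit 11, nat_lit 2, nat_lit 7, nat_lit 9],
  [nat_lit 11, nat_lit 10, nat_lit 11, nat_lit 2, nat_lit 10],
  [nat_lit 12, nat_lit 0, nat_lit 12, nat_lit 0, nat_lit 1],
  [nat_lit 12, nat_lit 1, nat_lit 12, nat_lit 1],
  [nat_lit 12, nat_lit 2, nat_lit 12, nat_lit 2, nat_lit 4],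
  [nat_lit 12, nat_lit 3, nat_lit 12, nat_lit 1, nat_lit 3, nat_lit 4],
  [nat_lit 12, nat_lit 4, nat_lit 12, nat_lit 4],
  [nat_lit 12, nat_lit 5, nat_lit 12, nat_lit 5, nat_lit 8],
  [nat_lit 12, nat_lit 6, nat_lit 12, nat_lit 1, nat_lit 6, nat_lit 8],
  [nat_lit 12, nat_lit 7, nat_lit 12, nat_lit 1, nat_lit 7],
  [nat_lit 12, nat_lit 8, nat_lit 12, nat_lit 8],
  [nat_lit 12, nat_lit 13, nat_lit 12, nat_lit 1, nat_lit 13],
  [nat_lit 0, nat_lit 13, nat_lit 0, nat_lit 13],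
  [nat_lit 1, nat_lit 13, nat_lit 1, nat_lit 13],
  [nat_lit 2, nat_lit 5, nat_lit 13, nat_lit 2, nat_lit 13],
  [nat_lit 3, nat_lit 6, nat_lit 13, nat_lit 3, nat_lit 13],
  [nat_lit 4, nat_lit 8, nat_lit 13, nat_lit 4, nat_lit 13],
  [nat_lit 5, nat_lit 13, nat_lit 5, nat_lit 13],
  [nat_lit 6, nat_lit 13, nat_lit 6, nat_lit 13],
  [nat_lit 8, nat_lit 13, nat_lit 8, nat_lit 13],
  [nat_lit 9, nat_lit 13, nat_lit 9, nat_lit 13],
  [nat_lit 13, nat_lit 7, nat_lit 13, nat_lit 7, nat_lit 13, nat_lit 7],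
  [nat_lit 8, nat_lit 10, nat_lit 8, nat_lit 7, nat_lit 13, nat_lit 7, nat_lit 8, nat_lit 10, nat_lit 8, nat_lit 7, nat_lit 13, nat_lit 7, nat_lit 8, nat_lit 10, nat_lit 8, nat_lit 7, nat_lit 13, nat_lit 7],
  [nat_lit 11, nat_lit 6, nat_lit 11, nat_lit 6, nat_lit 11, nat_lit 6],
  [nat_lit 12, nat_lit 9, nat_lit 12, nat_lit 9, nat_lit 12, nat_lit 9],
  [nat_lit 0, nat_lit 1, nat_lit 2, nat_lit 7, nat_lit 8, nat_lit 12, nat_lit 11, nat_lit 12, nat_lit 11],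
  [nat_lit 6, nat_lit 11, nat_lit 12, nat_lit 3, nat_lit 2, nat_lit 0, nat_lit 5, nat_lit 1, nat_lit 10, nat_lit 12, nat_lit 3, nat_lit 2, nat_lit 0, nat_lit 5, nat_lit 1, nat_lit 10, nat_lit 12, nat_lit 3, nat_lit 2, nat_lit 0, nat_lit 5, nat_lit 1, nat_lit 10, nat_lit 12, nat_lit 3, nat_lit 2, nat_lit 0, nat_lit 5, nat_lit 1, nat_lit 10],
  [nat_lit 9, nat_lit 12, nat_lit 11, nat_lit 5, nat_lit 1, nat_lit 0, nat_lit 3, nat_lit 2, nat_lit 13, nat_lit 11, nat_lit 5, nat_lit 1, nat_lit 0, nat_lit 3, nat_lit 2, nat_lit 13, nat_lit 11, nat_lit 5, nat_lit 1, nat_lit 0, nat_lit 3, nat_lit 2, nat_lit 13, nat_lit 11, nat_lit 5, nat_lit 1, nat_lit 0, nat_lit 3, nat_lit 2, nat_lit 13]]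
noncomputable def Tb12d : List ℕ := [nat_lit 0x1930,
  nat_lit 0x1930,
  nat_lit 0x1930,
  nat_lit 0x1930,
  nat_lit 0x1930,
  nat_lit 0x1930,
  nat_lit 0x3650,
  nat_lit 0x1930,
  nat_lit 0x1930,
  nat_lit 0x1930,
  nat_lit 0x1930,
  nat_lit 0x2991]
noncomputable def Tb12 (k u : ℕ) : ℕ := Nat.land (Nat.shiftRight (nth (nat_lit 0) Tb12d k) (Nat.mul u (nat_lit 5))) (nat_lit 31)
noncomputable def Ib12d : List ℕ := [nat_lit 0x18,
  nat_lit 0x18,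
  nat_lit 0x18,
  nat_lit 0x18,
  nat_lit 0x18,
  nat_lit 0x18,
  nat_lit 0x24,
  nat_lit 0x18,
  nat_lit 0x18,
  nat_lit 0x18,
  nat_lit 0x18,
  nat_lit 0x24]
noncomputable def Ib12 (k u : ℕ) : ℕ := Nat.land (Nat.shiftRight (nth (nat_lit 0) Ib12d k) (Nat.mul u (nat_lit 2))) (nat_lit 3)
noncomputable def Db12d : ℕ := nat_lit 0x924b00
noncomputable def Db12 (u : ℕ) : ℕ := Nat.land (Nat.shiftRight Db12d (Nat.mul u (nat_lit 8))) (nat_lit 255)
noncomputable def Eb12 (_ : ℕ) : ℕ := nat_lit 0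
noncomputable def Jb12 (_ : ℕ) : ℕ := nat_lit 0
noncomputable def Wb12 (_ : ℕ) : ℕ := nat_lit 0
noncomputable def RLb12 : List (List Rule) := [[.sub (nat_lit 0) [] [], .rel (nat_lit 38) (nat_lit 1) [nat_lit 6, nat_lit 0, nat_lit 6], .rel (nat_lit 138) (nat_lit 1) [nat_lit 11, nat_lit 0, nat_lit 2, nat_lit 11]],
  [.sub (nat_lit 2) [] [], .rel (nat_lit 54) (nat_lit 1) [nat_lit 6, nat_lit 1, nat_lit 6], .rel (nat_lit 140) (nat_lit 1) [nat_lit 11, nat_lit 1, nat_lit 4, nat_lit 11]],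
  [.sub (nat_lit 4) [] [], .rel (nat_lit 68) (nat_lit 2) [nat_lit 6, nat_lit 2, nat_lit 0, nat_lit 6], .rel (nat_lit 142) (nat_lit 1) [nat_lit 11, nat_lit 2, nat_lit 11]],
  [.sub (nat_lit 6) [] [], .rel (nat_lit 80) (nat_lit 1) [nat_lit 6, nat_lit 3, nat_lit 6], .rel (nat_lit 144) (nat_lit 1) [nat_lit 11, nat_lit 3, nat_lit 7, nat_lit 11]],
  [.sub (nat_lit 8) [] [], .rel (nat_lit 90) (nat_lit 2) [nat_lit 6, nat_lit 4, nat_lit 1, nat_lit 6], .rel (nat_lit 146) (nat_lit 1) [nat_lit 11, nat_lit 4, nat_lit 11]],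
  [.sub (nat_lit 10) [] [], .rel (nat_lit 98) (nat_lit 1) [nat_lit 6, nat_lit 5, nat_lit 6], .rel (nat_lit 148) (nat_lit 1) [nat_lit 11, nat_lit 2, nat_lit 4, nat_lit 5, nat_lit 11]],
  [.sub (nat_lit 12) [] [], .defn, .rel (nat_lit 12) (nat_lit 0) [nat_lit 6]],
  [.sub (nat_lit 14) [] [], .rel (nat_lit 106) (nat_lit 3) [nat_lit 6, nat_lit 3, nat_lit 7, nat_lit 6], .rel (nat_lit 150) (nat_lit 1) [nat_lit 11, nat_lit 7, nat_lit 11]],
  [.sub (nat_lit 16) [] [], .rel (nat_lit 108) (nat_lit 0) [nat_lit 6, nat_lit 8, nat_lit 6], .rel (nat_lit 152) (nat_lit 1) [nat_lit 11, nat_lit 2, nat_lit 8, nat_lit 11]],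
  [.sub (nat_lit 18) [] [], .rel (nat_lit 110) (nat_lit 0) [nat_lit 6, nat_lit 9, nat_lit 6], .rel (nat_lit 154) (nat_lit 1) [nat_lit 11, nat_lit 2, nat_lit 7, nat_lit 9, nat_lit 11]],
  [.sub (nat_lit 20) [] [], .rel (nat_lit 130) (nat_lit 1) [nat_lit 6, nat_lit 10, nat_lit 6], .rel (nat_lit 156) (nat_lit 1) [nat_lit 11, nat_lit 2, nat_lit 10, nat_lit 11]],
  [.defn, .rel (nat_lit 22) (nat_lit 0) [nat_lit 11], .rel (nat_lit 200) (nat_lit 0) [nat_lit 6, nat_lit 11, nat_lit 6, nat_lit 11, nat_lit 6]]]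
noncomputable def cb12 : TCert2 := ⟨3, 3, 3, 12, 3, 63, 0, Tb12, Ib12, Db12, Eb12, Jb12, Wb12, [[nat_lit 0],
  [nat_lit 1],
  [nat_lit 2],
  [nat_lit 3],
  [nat_lit 4],
  [nat_lit 5],
  [nat_lit 6],
  [nat_lit 7],
  [nat_lit 8],
  [nat_lit 9],
  [nat_lit 10]], RLb12⟩
noncomputable def Tb13d : List ℕ := [nat_lit 0x2b95abc5dae972b85bb198ac469b49c300,
  nat_lit 0x2b95abc5dae972b85bb198ac469b49c300,
  nat_lit 0x2b95abc5dae972b85bb198ac469b49c300,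
  nat_lit 0x2b95abc5dae972b85bb198ac469b49c300,
  nat_lit 0x2b95abc5dae972b85bb198ac469b49c300,
  nat_lit 0x3ac581d6f3d990b95ac294ed362349c300,
  nat_lit 0x234fc4b1e2a18c9a5bae58ac469b49c300,
  nat_lit 0x2b95abc5dae972b85bb198ac469b49c300,
  nat_lit 0xb1761e56aa1cc9a7a365e70782b49c300,
  nat_lit 0x3e9f0397b438590d63c2d6ae36a3c60500,
  nat_lit 0x1749cf62c9e0966a63c31aaf278c120700,
  nat_lit 0x1b4bc4b1e2212c7a53aa56ab461b09a300,
  nat_lit 0x239961c5ea9deaf44d3ce130883389e101]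
noncomputable def Tb13 (k u : ℕ) : ℕ := Nat.land (Nat.shiftRight (nth (nat_lit 0) Tb13d k) (Nat.mul u (nat_lit 9))) (nat_lit 511)
noncomputable def Ib13d : List ℕ := [nat_lit 0x214965a40c,
  nat_lit 0x214965a40c,
  nat_lit 0x214965a40c,
  nat_lit 0x214965a40c,
  nat_lit 0x214965a40c,
  nat_lit 0x48010b06053,
  nat_lit 0xc11a04112e5,
  nat_lit 0x214965a40c,
  nat_lit 0x4815800245c,
  nat_lit 0x304145300c,
  nat_lit 0x14098045004b,
  nat_lit 0xc11805112e5,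
  nat_lit 0x920c0009281]
noncomputable def Ib13 (k u : ℕ) : ℕ := Nat.land (Nat.shiftRight (nth (nat_lit 0) Ib13d k) (Nat.mul u (nat_lit 3))) (nat_lit 7)
noncomputable def Db13d : ℕ := nat_lit 0x162eb8c588af14e26c40878ccd97b2442e85886000
noncomputable def Db13 (u : ℕ) : ℕ := Nat.land (Nat.shiftRight Db13d (Nat.mul u (nat_lit 11))) (nat_lit 2047)
noncomputable def Eb13 (_ : ℕ) : ℕ := nat_lit 0
noncomputable def Jb13 (_ : ℕ) : ℕ := nat_lit 0
noncomputable def Wb13 (_ : ℕ) : ℕ := nat_lit 0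
noncomputable def RLb13 : List (List Rule) := [[.rel (nat_lit 44) (nat_lit 1) [nat_lit 9, nat_lit 0, nat_lit 9], .rel (nat_lit 158) (nat_lit 1) [nat_lit 12, nat_lit 0, nat_lit 1, nat_lit 12], .rel (nat_lit 118) (nat_lit 0) [nat_lit 10, nat_lit 0, nat_lit 10], .rel (nat_lit 42) (nat_lit 1) [nat_lit 8, nat_lit 0, nat_lit 8], .sub (nat_lit 0) [] [], .rel (nat_lit 36) (nat_lit 1) [nat_lit 5, nat_lit 0, nat_lit 5]],
  [.rel (nat_lit 60) (nat_lit 2) [nat_lit 9, nat_lit 1, nat_lit 0, nat_lit 9], .rel (nat_lit 160) (nat_lit 1) [nat_lit 12, nat_lit 1, nat_lit 12], .rel (nat_lit 120) (nat_lit 3) [nat_lit 10, nat_lit 1, nat_lit 3, nat_lit 10], .rel (nat_lit 58) (nat_lit 1) [nat_lit 8, nat_lit 1, nat_lit 8], .sub (nat_lit 2) [] [], .rel (nat_lit 52) (nat_lit 1) [nat_lit 5, nat_lit 1, nat_lit 5]],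
  [.rel (nat_lit 74) (nat_lit 1) [nat_lit 9, nat_lit 2, nat_lit 9], .rel (nat_lit 162) (nat_lit 1) [nat_lit 12, nat_lit 2, nat_lit 4, nat_lit 12], .rel (nat_lit 122) (nat_lit 0) [nat_lit 10, nat_lit 2, nat_lit 10], .rel (nat_lit 72) (nat_lit 1) [nat_lit 8, nat_lit 2, nat_lit 8], .sub (nat_lit 4) [] [], .rel (nat_lit 66) (nat_lit 1) [nat_lit 5, nat_lit 2, nat_lit 5]],
  [.rel (nat_lit 86) (nat_lit 1) [nat_lit 9, nat_lit 3, nat_lit 9], .rel (nat_lit 164) (nat_lit 1) [nat_lit 12, nat_lit 1, nat_lit 3, nat_lit 4, nat_lit 12], .rel (nat_lit 124) (nat_lit 0) [nat_lit 10, nat_lit 3, nat_lit 10], .rel (nat_lit 84) (nat_lit 2) [nat_lit 8, nat_lit 3, nat_lit 1, nat_lit 8], .sub (nat_lit 6) [] [], .rel (nat_lit 78) (nat_lit 2) [nat_lit 5, nat_lit 3, nat_lit 0, nat_lit 5]],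
  [.rel (nat_lit 96) (nat_lit 2) [nat_lit 9, nat_lit 4, nat_lit 2, nat_lit 9], .rel (nat_lit 166) (nat_lit 1) [nat_lit 12, nat_lit 4, nat_lit 12], .rel (nat_lit 126) (nat_lit 3) [nat_lit 10, nat_lit 4, nat_lit 7, nat_lit 10], .rel (nat_lit 94) (nat_lit 1) [nat_lit 8, nat_lit 4, nat_lit 8], .sub (nat_lit 8) [] [], .rel (nat_lit 88) (nat_lit 1) [nat_lit 5, nat_lit 4, nat_lit 5]],
  [.rel (nat_lit 10) (nat_lit 0) [nat_lit 5], .rel (nat_lit 104) (nat_lit 1) [nat_lit 9, nat_lit 5, nat_lit 9], .rel (nat_lit 168) (nat_lit 1) [nat_lit 12, nat_lit 5, nat_lit 8, nat_lit 12], .sub (nat_lit 10) [] [], .defn, .rel (nat_lit 102) (nat_lit 1) [nat_lit 8, nat_lit 5, nat_lit 8], .rel (nat_lit 128) (nat_lit 3) [nat_lit 10, nat_lit 5, nat_lit 9, nat_lit 10]],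
  [.rel (nat_lit 12) (nat_lit 0) [nat_lit 6], .rel (nat_lit 130) (nat_lit 0) [nat_lit 10, nat_lit 6, nat_lit 10], .rel (nat_lit 108) (nat_lit 1) [nat_lit 8, nat_lit 6, nat_lit 8], .rel (nat_lit 110) (nat_lit 1) [nat_lit 9, nat_lit 6, nat_lit 9], .rel (nat_lit 170) (nat_lit 1) [nat_lit 12, nat_lit 1, nat_lit 6, nat_lit 8, nat_lit 12], .sub (nat_lit 12) [] [], .rel (nat_lit 98) (nat_lit 0) [nat_lit 5, nat_lit 6, nat_lit 5]],
  [.rel (nat_lit 114) (nat_lit 1) [nat_lit 9, nat_lit 7, nat_lit 9], .rel (nat_lit 172) (nat_lit 1) [nat_lit 12, nat_lit 1, nat_lit 7, nat_lit 12], .rel (nat_lit 132) (nat_lit 0) [nat_lit 10, nat_lit 7, nat_lit 10], .rel (nat_lit 112) (nat_lit 2) [nat_lit 8, nat_lit 7, nat_lit 4, nat_lit 8], .sub (nat_lit 14) [] [], .rel (nat_lit 100) (nat_lit 3) [nat_lit 5, nat_lit 2, nat_lit 7, nat_lit 5]],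
  [.rel (nat_lit 16) (nat_lit 0) [nat_lit 8], .rel (nat_lit 116) (nat_lit 2) [nat_lit 9, nat_lit 8, nat_lit 5, nat_lit 9], .defn, .rel (nat_lit 174) (nat_lit 1) [nat_lit 12, nat_lit 8, nat_lit 12], .sub (nat_lit 16) [] [], .rel (nat_lit 102) (nat_lit 0) [nat_lit 5, nat_lit 8, nat_lit 5]],
  [.rel (nat_lit 18) (nat_lit 0) [nat_lit 9], .defn, .rel (nat_lit 116) (nat_lit 3) [nat_lit 8, nat_lit 5, nat_lit 9, nat_lit 8], .rel (nat_lit 134) (nat_lit 0) [nat_lit 10, nat_lit 9, nat_lit 10], .sub (nat_lit 18) [] []],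
  [.rel (nat_lit 20) (nat_lit 0) [nat_lit 10], .defn, .rel (nat_lit 136) (nat_lit 0) [nat_lit 8, nat_lit 10, nat_lit 8, nat_lit 10, nat_lit 8], .sub (nat_lit 20) [] [], .rel (nat_lit 128) (nat_lit 2) [nat_lit 5, nat_lit 10, nat_lit 5, nat_lit 9], .rel (nat_lit 134) (nat_lit 1) [nat_lit 9, nat_lit 10, nat_lit 9], .rel (nat_lit 206) (nat_lit 29) [nat_lit 6, nat_lit 11, nat_lit 12, nat_lit 3, nat_lit 2, nat_lit 0, nat_lit 5, nat_lit 1, nat_lit 10, nat_lit 12, nat_lit 3, nat_lit 2, nat_lit 0, nat_lit 5, nat_lit 1, nat_lit 10, nat_lit 12, nat_lit 3, nat_lit 2, nat_lit 0, nat_lit 5, nat_lit 1, nat_lit 10, nat_lit 12, nat_lit 3, nat_lit 2, nat_lit 0, nat_lit 5, nat_lit 1]],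
  [.rel (nat_lit 22) (nat_lit 0) [nat_lit 11], .rel (nat_lit 156) (nat_lit 2) [nat_lit 2, nat_lit 10, nat_lit 11, nat_lit 10], .rel (nat_lit 152) (nat_lit 2) [nat_lit 2, nat_lit 8, nat_lit 11, nat_lit 8], .rel (nat_lit 154) (nat_lit 2) [nat_lit 2, nat_lit 7, nat_lit 9, nat_lit 11, nat_lit 9], .rel (nat_lit 204) (nat_lit 8) [nat_lit 0, nat_lit 1, nat_lit 2, nat_lit 7, nat_lit 8, nat_lit 12, nat_lit 11, nat_lit 12], .sub (nat_lit 22) [] [], .rel (nat_lit 148) (nat_lit 2) [nat_lit 2, nat_lit 4, nat_lit 5, nat_lit 11, nat_lit 5]],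
  [.rel (nat_lit 24) (nat_lit 0) [nat_lit 12], .defn, .rel (nat_lit 202) (nat_lit 0) [nat_lit 9, nat_lit 12, nat_lit 9, nat_lit 12, nat_lit 9], .rel (nat_lit 168) (nat_lit 2) [nat_lit 5, nat_lit 8, nat_lit 12, nat_lit 5]]]
noncomputable def cb13 : TCert2 := ⟨15, 15, 15, 13, 15, 255, 0, Tb13, Ib13, Db13, Eb13, Jb13, Wb13, [[nat_lit 0],
  [nat_lit 1],
  [nat_lit 2],
  [nat_lit 3],
  [nat_lit 4],
  [nat_lit 5],
  [nat_lit 6],
  [nat_lit 7],
  [nat_lit 8],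
  [nat_lit 9],
  [nat_lit 10],
  [nat_lit 11]], RLb13⟩
noncomputable def Tb14d : List BT := [Tb14d0, Tb14d1, Tb14d2, Tb14d3, Tb14d4, Tb14d5, Tb14d6, Tb14d7, Tb14d8, Tb14d9, Tb14d10, Tb14d11, Tb14d12, Tb14d13]
noncomputable def Tb14 (k u : ℕ) : ℕ := force (Nat.shiftRight u (nat_lit 7)) fun j => Nat.land (Nat.shiftRight ((nth (BT.leaf (nat_lit 0)) Tb14d k).get j) (Nat.mul (Nat.land u (nat_lit 127)) (nat_lit 25))) (nat_lit 33554431)
noncomputable def Ib14d : List BT := [Ib14d0, Ib14d1, Ib14d2, Ib14d3, Ib14d4, Ib14d5, Ib14d6, Ib14d7, Ib14d8, Ib14d9, Ib14d10, Ib14d11, Ib14d12, Ib14d13]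
noncomputable def Ib14 (k u : ℕ) : ℕ := force (Nat.shiftRight u (nat_lit 9)) fun j => Nat.land (Nat.shiftRight ((nth (BT.leaf (nat_lit 0)) Ib14d k).get j) (Nat.mul (Nat.land u (nat_lit 511)) (nat_lit 6))) (nat_lit 63)
noncomputable def Db14 (u : ℕ) : ℕ := force (Nat.shiftRight u (nat_lit 7)) fun j => Nat.land (Nat.shiftRight (Db14d.get j) (Nat.mul (Nat.land u (nat_lit 127)) (nat_lit 23))) (nat_lit 8388607)
noncomputable def Eb14td : BT := (.node (.node (.node (.node (.leaf (nat_lit 0xa48587d441546ae0ec7520913a5c390d4810d6a513f0f00455a844abd242562a31325518462a8c232528268ddf12fcef098077c20bbc01058000000ef840b0000003be1029df0826ef84027781f0bbe2669de082b51869b77c20a3be266dde0824ef898477c4c33be263de012c0ef896377c4afbbc255aa00ec9500765a9c46c54622a699075d4b07ada68257d461e7aa30f415287a6acc091d6a1206af03e75881f5aa028cd5fc862b10ad35285aaa942d6548144ea60a2d57019dac00cfd5bc892a60b21578186ac41c2d5e0edea60b07570519aa01b055e14dab00a45548529aa82b755c14daaee42d578517a9428dd5213bea809e558720fac0145d600a1aa706a157f20bac419d3be071aaf0517530378abc13d54c0a2eaee3f95702a0ab419dd5e0adeae04e3580274abc1a85600cfaac06895782a7ab81a855dc7f2a7051d5a0288aec0b8d68016abb01c55c005bae802ed6204cab201ff5a00b7ae806b572035eb7008d5c8049ae78f4d72020eb900fd5a8080ac805f57002fab401675c0083ae0030578028ab30107600007))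 (.leaf (nat_lit 0x7f127c3b7d969dd641eff0f257f8dfc3fcabe9fe3d3cff26316a168238078c9fe3c50fd2d077fd6a03fbd945fe5ae8fc17a980fb013f6b615fdec5efeb2667796a9bbcaf59df5d56efaeae780dcc3be6741df339ef0178878425cbc02c99de488eef2be877d5b8bc05e2df95d10fe29277f150b3faa4a5db5a34e2a0937ed82a3fa8c65fc5a28fea6807f4ca23fa8c21fe43e0ff21f17f173ebfab9f9fb6376ee2d887718ddba7d7fdfa4b24bcad0d7e98e33f46801f93d74f02c18781782bc05849df5b40ef2361778b823bcb00ddf2e0af02dcd7815bbbbc8d85de3312ef198777d5e5bc097c1df330cef90227815ddbc22dcde162aaf0a66a7885953c0b99de13310fcb0107b58093fac72dfc41e2ff9ff57fcffc3c06419e02ecef02bfc781758bc02c9dfb476cfe24fa7ed25d3fc92edff5964e831bd7f4cde27cb9f202559aa0affc7f131b3f2b8b9fe3f54fe92b87e925cbfc83d5ff1cb6ee318469d1d9bf48eb1fb475e9c2c71629768bfcb4e5fd5d989db1317f96a1bc03f61e05d28f0213b78574d3c0ba99e05d64efa451))) (.node (.leaf (nat_lit 0x4c54ead1481228b411c87a9f44b3a28a1ea786894dab4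4a6d69a11c8bf893da1c3753061baa998feb464a27633513c87aa1c3b150f9e6a94cb74de7439d8c4494fa21ca79d0f53d317a91644542a21ea13d0e50a086a8ef4414eabfe5ea0ba42aa9a28a9a2903021ca2a52ee8753ba2a09d517721ca1510e50af3aa54b3b5456512712e8a4e993ea6e8880d824426c16414d8741a74ea193a8cfa7da5fd49c1019fef9a91eecb89ba69137a348186a7fd27f2d29225fa2174fe22327fd27a3f48de5df41a0f020d47f08e2bfe93f5fe327f07218d784be44248bb21345dafe24fc7fc79b3fe6c21ff3f2eff1fef80079c3fa3cf1ff2ab8fe1baa7fcfe9c023d2dda490aeaa2707e912d3f28985fe258c5d0c227ed1bb3fc8e564840811a20417f107ec0033ee003faefe9fc9804fbf3c06435e016e8f006d2a40e3951c8205fc446d419d857f0e2dbf64bca000ccf002005800fff270807a003f98ef9916778573bc084dde015d2ef15e8780af33fe7959e02c1aef8fdc78109dbc05d91df3306f0160b780b08bc25dbde0339af0991c)) (.leaf (nat_lit 0x29e967896f294d789d8245e1511ac6789773dc448e7e255b2f11586a08b644834b1aa23d8f311eccd09563f046b24624ce3b15d7eb0b2c3d05862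682333f9156c118b0c4d1ae9a0cc43d8b2da7fa0a14ad4b654c05ba8d13e28eea30fb60faa3bc354aac4925fb1fafac9207d505bcfa22dd5609f34824df90ca77f7e042665b21532ecab8d3429492e2ae04d15919d8b480b255405c2d24eb15102389e82425841112d650216cae80b68e6c5b46690ee6f99031d3c838ce85c4bd02de1b616f2f14b6977c5c475f2d24918c91bc0648db645cb052e63b29730600b982e65d416f2e60bc17705fcba8e045d475a2d8c2c16f2ec8b88ef45ac30e18e11211504884889621dc75330985196cb228b68b4c5c47092da32016d1c5cb758b65bc53a2de5dc1711cacb78dbe5bcbcd2de5e71712f3c6c94041fca050ce50416b0af0b986e060311930588997ead88b664a660ab5830588a982c1ecc156c060b10a30588a984c4ecc162705c476a1f6375171157cba8eb65c47142e60bb97505f4b982fc5d475d355f889751c34e279ec71bcfa)))) (.node (.node (.leaf (nat_lit 0xa8b956d4c2e7ea21fbb5106d20000003c0267aa30998f01600a94267bbe2635e01632000000a48aed3c0293a911651510b190000003bc254aa21fd0ee95b0778affbc057f1de2bc2ef0991a2480bbc057aa7f16e6ef89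907784ced222dd6a114d151904c778ac63c025f1e02bf4ef8959780208d4425cde01325520975778afcd402d99df1330ef898177c4bebbe56cde02b72ef95b5780af451057b5de1336f00a6877c4ccbbe4135de209aef89577807ecbbe1036a21fb2f015b2a404e2bbe56c6a11360ef15a47744c03be2609dd1300ef8996778ad1d262c15df2bc5490b08a8452abbe56baa22038ef15b077caf0d462c7de02254ef095377c4c9bbc2551de082f498a26784ada540281ddf2b52ef95a677c4cad22289ddf12b1520ba0778ad2d441155df209cef898c77cacfd3c413600145f4b94a0a58a6753423b69911d95708eda68a63d34523e992923559496a6ca4755a5262a8279b5413cfaa4a43d50522aa827735513bcab8477d3251aaad11e3548ab9aac55e53e2c569f162d4d0caea60582d323fe69e12e1500971)) (.leaf (nat_lit 0x6d5ca6964f2f9bc5d3c8829d244950e18ac4a0c4575c6118a130cc5d184ad78c2575a612ba930584b984aeb0c3313086b67c445b3e982c291101d4288205443d4b1222a2a510514887262e449317984c2650e6d126130cc43ce75a2273b10f74d261b1273fdb659dbdaf10d71f886b6ab4487259b0b89e8b39df4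5af43a1d55d50ea580eb7160893a324a9c1e514e0cd103b966130cd309867220741110743d4527d7441c43224e0810c6e0886b81e43dc3525ee21a872a1143150aa21532a6adc9a886e4697f47846d4a9252731927677893b8874bce4025cdfba8935289b2982a21491a6aa4953d6f1a9c34414c14b125ddc2689529297a9d24cfa31516aae5fe637eff32c243ce429de72210f5413441a9da1da28198a82d3252c545a94f68d6a5a52db2e89689e879da3444ed2a1ee2a0eb67487837fe43dbfd226783d34eda144a085a30ee3bfcbb05103c1e8937d1439c22266a0e0ee5cba872e5a43d70fa1eb839b36cf0fda46e4b970fa5eb8892e5c8c97ae49a25a22994a9c9147040941d51449a5fd16d9a10f704142f6dc))) (.leaf (nat_lit 0x77d1e53bcaf85df57d0efabe7784c7fbbe6719fa542cfd2e307fc7a63f4a50dcf5a94fe2cd47fc796bf6b319fc5992ff1fb97f52363fe8411e057b8f018fd784cb2bbeb9b9e157feff25dc77d5f93be661de02f24f1197f784cb23be64450e5c9287264d43959f4ec3d32781e9b3a9e279e4f1451a7a02924d56ff27037f9382bfc5516002aa4ff15417f8aaebfc8c65fe55f8ff2d1a7f8aafbfcb455fe4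212ff2afd7f957fa5a55992d4de49a26e37f8f103fca69dfe48deff1e217f8aaf3fcb509fe5a76ff954f7c925e3fe3c9dfe5611002ae48015733feab79ff3cb8f018fc7815b7bc0add9e03218fe22337f1683bf63f39fd4640fd28fa7815de3bab2d1ff1e08ff9fea8007833fe7a7dff3cb2afab407f139f3f49285ff492d0020ed4d4fe8a769be5fd1e92fea0027885bc3bcad45df2c56f119800000003c27a05df31a6f016137847f3bc25841e02bc6ef15ed780af63bc5789e02beeef15da780b038000001e114b4f09e377845333c258b1e316e4f09776784c8c3c0662de14272f119817855dcbc2656ddf579cef2bd8)))) (.node (.node (.node (.leaf (nat_lit 0x780823d262dd69316ed500b03a847ded4a15e6a50f134c07d0a883e95461fe6a30c8f518836a94306d481fd2a309cb5184e7a8b94f5423af6a417634f8ee9a87958d2c3a36a319c1518feba942bdd443adaa219b95205728047a754025e69f12f55106a7a88354d483a32a1133f4f8bd7a885ebd4a2f3e9b1a834b87dda5f91bd4627c6a10fbb4c07dda485945402c22a11527510a93a843d55403ba6a30db3500b05a546513c03fa2a2082b4a8416a407e2d382ede8d1f8b4c8a8aa87935d2c1d7a9517374f0eefa30665522332a9b150d4d8ecda7c7675301e76971527510721a7c6695362d26970f475189d4a8c5a5d481e96a219a15189e1a5065b5481c46a40e27458e33a8c65f54632fea313e9518c9da8c59e5481ba6a40dd5520950a9838d5461b9aa30dcf4a8cd5a7864fd46323ea418c1508496a8424bd462c029a18cb518c87a883c6d441e3aa30ef951877da8c4ae5441c7aa40df74a8bb8a885dcd482eea960e3d51725e780267d262686a4133d5007aaa6391bd4829f2a314fb4c8a7ea6419ad320cde9b0f994a0b08))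 (.leaf (nat_lit 0x7ed8df1d6e020f07014872a0d43cea9a1e55f8f1704744b4c96c0fada56a3c92d51e8881d50440e93b58d50d2f3aa0981d538016b525e772d303b9d4533fe39da09a20b888c3624c8818747ec85dbfa42f288282f44141aa29460bfa8e493554389aa9d2a287caa186b1cfd35948734ad4bd6e125ab04cec6d63443521a21a98bfeb2ddfe425e8833b545d9dbca0ac693c4686fead7b7ed6bebfa8d31ff4656fea3487f51a53fa4845fd4696ffacb57fd27fbfe93dd3458d700233357926bbf893655c5cef01ae787fd65b368a3ed0c699aff24b878105e3fec6ddfe64b890a22b7f96c53b6cae9d44b22fda5827e92c3bf6b3f9fc5a00e7b23b7812d61facce8fb6678ff2d863eda2fa6eb1f94564e69aac1c6c5512a1ccd3cc23104ff238943da4e982c4890d380695b3c8a299da512cee5f8638098346ca29a2bd0e7482873a43451d4c2e52231729114b948505da4432e520f97290d8bb48885ca42d2e52211729104b94835432e1da2d70d9e4ce94fe66ea871e317f194a3f26665fb3334a230267f58da3f6c6d5fe6372ff323d))) (.node (.leaf (nat_lit 0x77d5ebbc05dc1e057acefabb6784afebc22dd5df57aae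fabb50000003c06345df56d4ef99107815dabc06239e02c36f01915780bca3c05839e01610f00b76784811bc0af81e02c1eefabd477cb063c04081df57c2eea36c774b053c03fa400000000000078109d3c258a9e13318f097687855d93c22c95df3108f02bba780bcb0000001e0330cf096c777c3693be6625e13232f0a12c0000003c02ddde13204ef8b1a78058e3bc4139e1163ef015aa77c821bc0644de01360ef18a27815d8bbe2609de2bc8f0188d7815d83be5824c21c94f0195a7805b03c26629e02be8ef89a4788bcbbc42761e02098f089977805b33c0281dde2b6af015f5778adabc02589df2b44ee8998774ac63be6744000000f02b6d77d5b63c05e61df3398f015a877cad3bba2611de2b3eef160a77cb15bbc57cde03206ee95e177cb04bba56c2524e333fa6e9438e5425278c50e39532e2b078bcde4432ac292e2e20ff97277fcb934025b81ff2ddeff97237fc816c021e61ff2e4b2ea8307fcb923fe5b9a7538fb0016f07fcb79bfa66f9fd338142f44e)) (.leaf (nat_lit 0x6bb8f047b30e175dce066e2e03971601ab8ba265cc30f2e5c88d72744bc1f22d57b6131c6708b70104cb0660d476f)))) (.node (.node (.leaf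 (nat_lit 0x7f0b504ac6b6a8938209b1c128b500245e74f2000dc7001677800bbfc00483e0032610017a3800cb6c00273a00176b3b97458089044ec7341fe2c6aff163f804b3cbfc5e09fb2f08ff96e9800b3e22277fe8c3b76ff99397fccf32227738c32bc11b1bf4920dfabfc451e0024245d11b6aa855bd5860c6a9304f489a18a4cd0d5245fa2922fd55397faaa8bfe3c02e85e01740f08b637805adbc226b5e00e76f08975780ce73c02e7de1173cf0962c77c5bbbbe6451e03306f015eb780c893c46411e12b6ef090217808113c06349e02c0cef9912780593bc02ca1e01652f11601780c7f1842aeddf2edb5497fcaa86101862c46aa1095558c1baa8a3d5223082911846f08a6978052dbc026c1df14b0ef8a67780bba3c45855df2098f0101ca64a563fe24c9e02b6cf095f6784af3bbc5685e014aa0000007807eebbe5791df1348f089a277c4bfbbe2680000000ef898577c4aa8000000000000ef899c0000000000001df2c08f00994780b018000001df2b5eef95a077caf2bc02685df2c054c0ff9a485bb3be1a6c000001510fe9)) (.leaf (nat_lit 0x2c64f1958ecd49d941c7ecbf770d5f2b8706f5b4837ce249cb70a449a46f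409c179d24dcb062d8a8496b1ed09a95c459478f14659f94f2cd0916d284c42fe1565550b52ab5bc8f1ada4698271a6993b2bb4b87e14da46992c5f83b4b1e71ae90a0c647b46c63bfb651e04d99330354a42676347b3ed72c718a3828bb332b1d9a90cc18d708d6427c9d11ea24130f1a69be5d3ee0468047d5ff34f1ac5a876d2d8bb6a6bddb634f0fbda687e4d9be5b6c1f2f360dce5b46e788d47282e1a0da6d0db8bb34f29a43612e8d461749f3cbc67d85c9a892e1a179726a20b85e804cc62c4e21b59726a34b935165c34222e1a11a710dbcb8683a5c33ce2e19f09726a1db669d6c732f96dd797368eee5b47dc4dd3ee46d603c37f01edb57854dabc2d6cdde1360ef11a07e3ad93f206e9f91b6307ddb283f252b8c4295f81960fa40b27e1059be8e39e1db170d0a9c380d2e041c1705e5b97251f5bf6ca24e3b2f6ed8830a101b49070dce82bf12c5f86cb4b49d1665f282bdb76f5e8020af27925794090bcff701e791b2c17cba7bcc84bdd7))) (.leaf (nat_lit 0x7792183bc8df9de20c4ef18c1779611bbe8f39df62caf0178977d5b7bc0afbddf2bb2f02bda7791bf3bc45b1de31a4ef965c7815f63beadd9df46fcef8b29784bcc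bc06439e1093eef232c77cc88bc22db5e157a6e6315a7816a73c2addddf56f4e72b78784cb33be8d01e057b6ef9903784cc23c25e45e05d40efac17784b643c0af44c15f8c612fa830cc1798260b4c13054622fd2308c14984be88c2501e60982e30cf0298260b0c15f92962af03017d8982a6bcc15362612fb0304c14184bed9de5806ef18d33057e51847811e056dc609ae043ce3522271b5103be2f7aca77e165496ea5753558ceff2d8b443a2921ea9fd0f550287aa1a30cc79188639cc231be6118da308c7498463c4c231c86118f030cc7798463590f51aa88f43a43d49921ea4cd0f514afcae824b946ad1a765de1252effad826050f13f8878dfe5d84fe9fa37e4ceabf88e4dfd5530ff14b67f9291bfc8261ff4722ff250e7f528a3fc8f61fe5a54fe2d2b7fcfbdbbe62b5e0363ef09917780bce3c05e69e02c4ef01775784b44bbe2939df330af01795)))))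
noncomputable def Eb14t (u : ℕ) : ℕ := force (Nat.shiftRight u (nat_lit 7)) fun j => Nat.land (Nat.shiftRight (Eb14td.get j) (Nat.mul (Nat.land u (nat_lit 127)) (nat_lit 25))) (nat_lit 33554431)
noncomputable def Jb14td : BT := (.node (.node (.node (.leaf (nat_lit 0x3000010040d00405008090340800c040340800c060180201c02034080180d020030100100c0d0200201c0901c020080900c040080700c0d02407028090100800c0c028070140b0a47a00c1001c0b014233716e004960080300c0202409018040080608c0a01c92024090140200c0a01c040900a01c03000040240a01c000180900000000000000a01009014050140a00c0702009028090140903408014477d4041780f008040240c028080200d0200d0280a0040c000010000b0100c02807028080280a0280a0280a0280a0280a0000003c080100001000000000356b0340400801004020253c66c0d0000902408014090180602406004060040101803018a70000a01c08018070000a0280502005014020140503405014020240901405004080240d5ac0d010020040100403034020280702008008070080a0204214c53))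 (.leaf (nat_lit 0x8000080101409024040e42e22805024be0240202805024091400a00c0802806034080240c028070100d02806348d7014040000a000df15cec3f40810c0a0080600c0a01c03028071b4025100035d590242c0000c00409019a10180500006010040183b010291840a26408259463e4030140900c050109301804008030240a01c090300b0140701c090100601c0701c05000030080c0180a0180001c05010080040329c0d03008018032c07c02803010050280d2280501404034060280a0300a024080300603406028090380a020090152400803010090240901401000050000000c05034e0020070100a028070340a01c030340d0180d0340a030070180c01c05028090000a01cfa518000100b01c050140a01c0600008014050282400822000b101c00024090040900000000040009e0d006010060000d024060280701c0d))) (.node (.leaf (nat_lit 0x100502c070200c02c060000901c0b01c0a0200502c080280a0100702c0901c040040d01c08000000140b01c0b01c010340700c0001c050180d01c050000b0040d0140603000030040300d02c0a0180300c070280303005030060200c0180c0300c0340c0180b02c0d0280b0000701c05004070300d0280001c0a02c0d0300a338ed034c2020232901f0200c02800014030200801cd602008000010040b0254c37c0402409028092c9031e807050af04000330020140502c0402409024ea02409000020240501c05010050295237405000f90000401498384af140ce00c3b0296e0709656004018500280402809024090240303121014000c40d0340c0240b02c0b0200b02c0b00029000040240402009271030240801401014030300c548dd034c101c0702c0a01d520140d03403024060300502c0d0100c01801014050240b))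 (.leaf (nat_lit 0xa50a4140a04829c0f354220240f04c00114a40380d220010186000001034030087d1842900099034c903009228e248d33004df0280b23cf90381401cfb08004008fb03c49011472d4924f05300c030385c1780037c0d030080a12b29c04024050180b011333781e02c0b0140202400010020340702c0000000000df0140d0300602005004000080b0040102c0b535053880001807018090080d030080140802406008030900900c090180100c034c0010015d)))) (.node (.node (.leaf (nat_lit 0x18e103408118c00340c024080180500c040100708c04010050040b02405004080000402c0a02ce12dc0802c070356b00c050a400014050080401c020240000c030280c0240b0180c030020300b01c0c0080701c060300702c050280b00c0a01c08020080000200c030300c0300c00c03020033780b01c0b0280a030000300c00c0b0200c0000c014000000c0000001c0c0240001c070300a0300d0040c0000c02d6b0140100003034090100a030000180c00c030000a0080d0280c0180a1bc072140a0280300c010280a00c0a0280d024000040602c080140a0300a030090340c0280a0280a0300a0240000c0a0180a0340a0300a02005020050040a00404028030240d0040402803030060280c0280d0300a0040000c0a0280a0206e0000201c6100c000042487c0200c00014020000014c040000d0100300cea0004700405))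 (.leaf (nat_lit 0xc1e024040392d5a009000cc0292b00c1e040002602472c51078053e40012408010060805e018055741d0a0033c892118e1358030f05d00000000130380902404000030140200c17029ab0285d0280a2f8030040200c2f4a0090180a0254d0180a00c000041422c04009203b4062d53c02403331051a00642c2c2943e600000880b018995040a00cdd000000016d07cff37cfb368d500c44010ce220001844e260020081c004050000901c06024030040300c0a02802008050140002007000030280801807024030300601ce20340114c20008050240302807028080180300c030100201809008080240c02c0a12424030010200403401014054c00301409014090240501c0a0340700c0101009014020e4050240d01c040240901042008040900b034000242b02409000006840a0140000000008512880d0d00600c88))) (.leaf (nat_lit 0x2c0a01c030340d0280401807034010340d0180d01c0603407010070300d02c0d028ec0280701cd30100d01c060100801c0c0200b0240a0280700c080280700c09028040280800c0a0200800008034070180a0200a0340701cd2004003480c01405014040200b01400024070180302c01008020080201002000140080a0cc0603400080010080c020040240701c0300c050200d0240202c090000c0300501c03034060200a0140b0340a02c050000302404024030000902c00030070280902c0a00c0202007024090100a000000f8e14500b01c090000600c0d02c0802c0a0280b01c0b01df50340a0240802c000100b0c8000280b008050080401c0b0080800c0a00c0501c6f0340c02c060058d028000100a3740802c0a0040d02c040000302c0900c0b0000d02c0601c0d0140003409020065e40300c0301c0701c0301c0a))))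
noncomputable def Jb14t (u : ℕ) : ℕ := force (Nat.shiftRight u (nat_lit 8)) fun j => Nat.land (Nat.shiftRight (Jb14td.get j) (Nat.mul (Nat.land u (nat_lit 255)) (nat_lit 10))) (nat_lit 1023)
noncomputable def Wb14td : BT := (.node (.node (.node (.leaf (nat_lit 0xe5c5cb845bb72df1f7a15e43c4f2dbe5b5cb6432388360c1bcb5427284e7e5a43af796872cfe59c3a346700feb0af63ad866e72c71e9dcb1796206a70d523a304cff2bfe57c2f3c6a0f2b7e4d427c43eef2b71651cad4549f2b30f543ba436cf2af1945cab420a84161f8bcaa795472a7e4d7ca979520eefe545ca879500ecde53dca77959872119a5ca6794c7297e52dca5794a7293e5241c443898e33e51dca344fa728be5141ba437509500e341b983738cd5e504323f9400496092e2c0393e0c87e4f5c9e793c7277e4ec1c7837d8bb8e4e42ee838f726fe4dc26844cf07aae4d5c9a453ef267066a0cdc3e67263161e15479300913e4dfc97792e725b12ae25604c9046208c9c95792a7253e4a5c944000724f0000102b926724be495c9279247247e48dc9179227243130dc907920723fe47dc8f43b2076511b1c8e791c72ba095fc8d791a7233024612040f9f22fe45dc8602b485aae454144c28b019de44dc8979120186e445c887910051906c014db90e05290addc86790b0517e431c854279720f05160a1b908720f0675c834145f20b04f5c82790402a0e40dc814138f20306a00cf81a202a7e3fdc7f41470288e3f40168071005be3edc7d78fa00b7e3e4035c02371efe3d2020c03f0080e3d5c7a4059808300c1c7978f271e3))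 (.leaf (nat_lit 0x637ce023b7076dfedbddb77b6e34c9edb4a3c947a76d73a4ed50fb6a76d3eda4772fb7e76cf6827dbb7b6618742177db24a0b941a5183db1550e29d2ed846b1cd6534ad5b84b04fb5e35216a63dae7b5c76b7676eac691a1ad7b5afbdac7b5876afed5ddab7b5676abed55daa7b5476a749afda9573bf6a3ed44a3eda66f69fed3dda7592e222bed35da67b4c7697ed2dda5568076934b59da4599e2d8668beb1fbb462c1ced15da27b447687ed0dda14e01b3c8ed05da058e0346c68ae7480e909d4cecf5d9e7b3c2443ecedd9d52227673ece5d9c7b38766fecdcce97b36766becd46667b343026eccdd997b32323decc5d9859078f2537f0abe8f4f26315a09d967b2c2d075a81d947b2a17a9eca4b617b28764f5aa6af5bb26764bec95d927b247647ec8dd915223abe8ec85d9057442927542dd8f568d763bec75d8e7b1c7637ec6c8c210f87633ec65d8c58ddf62fec61d8b52c92d0d638c6803b147627ec4dd897b1223612e08b00fb102dcd56ee8d87b0e761bec35d867a5c7617ec2dd857b0a7613ec25d844cc43010ec1dd837b061ff53ff1d827b042bfc5d63d817b027603ec05d807b0075ffebfcb9f1566affcebf5d7e4fd575f7ebec83d7afa75f3ebe5d7c7af875ef5da3d7b7af675ebebd43f6174a213bebccba9975975e3)))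 (.node (.leaf (nat_lit 0xe9c5d3855eb74dfe9bdd3755eaabb50001d367a6c1910e9add357a6a1915e9a5d347a6874cf2046af80b07abd4e995d3255f0a36ce98dd3140000000e98458aba601768e97dd2f7a5e74bb2f2c0000cc374b7e96dd2d7a5a74b30001d2c7a580b1ae95dcc13a5674abe954644fa5418a25763d2979bef4a3e945d284725749fe93dd274afa09a4e935d267a4c7497e92dd257999f493e6662588ad17338e91dd234000748be915d224ce67487e90c2613a427483e90457cfa4015e1e8fdd1f7a3e26e93951d1e4e54ab07e8edd1d7a3a7473e8e5d1c7a38746fe8ddd1b7a36746be8d45b9ba3474672de666f8ce0746353aa8123a30745fe8bdd177a2e745be8b5d164dd4f457e8aca27544f7453e8a5d17ba281d8ce8c7d1354f4f44b50a9d12542828efe88c5ea3a22744340c1d107a2022a045ddd0f542ba54b5158712fa1c26e83609d0d5361a74e4ea27da7a181fefe85dd0b4de8f42be855d0a485d7427e84c8de7a1220d4e845d087a10218de83c8bb3a0e741b1e6c6c20fcb9fef1e703cf3a0a1baa3fa63d2d242f40fe81dd034963740be815d027a047407e80dd014febf4033efdd007a0073ff38e482079fe1d8538b64bcb9fc73f7e7edcfd79fa73f315cfcfc79f87332e7ddcfb4b068fdce7d5cfa4cc1f3e7e7cc5dbf9f273e3))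 (.leaf (nat_lit 0x1e1c7c385dceb8b97162e2edcc3b9737277c347867719de196c19c76fa59ef297c305e15f0bd73dfc2e785b61a9644ac6af857b33563f3c2a78535facc3d189a33f9b046c4d3c263d8b9fe94ad553028d1f08cfb63c22784397ede105f544fa255834826432f83bf075e0e7c1c492ef06d19dbc1a7833f065023a090c1119408ae8239b4669f0551d3fc147827f04de097c127823f045e087c10781ff03de077c0e781bf03505ffc0c781730b1e057c0a7813f025e046258c753f01cb22a2d3780b8c811c5fc047807f00de017c027803f005e007c004a05effd0af3bfe77fbeff4ad8bbfc2b58622bdfd55b077f3622bdfc7bf877efefdddfb7bf677ebefd5dfa7bf477e77e23df95e7b3cfa)))) (.node (.node (.leaf (nat_lit 0xe7c46b68e081c12e7bc74f037196772efe483cc9817a332dbcf579ea17452411cf479e873cfe79c5e08bc216e92cf9cf24edd9939e78c773b9e21bf437ebcf079e073bf156e60c4c13f3bb34345fa39dc17fae76dced79da73b3e765cec79d873afe75dceb79d6162ce963cea79d473a7e74c64139d210212045ce879d073a6e73dce779ce739be735ce679cc73b61841ce544250c1b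e72430839c8738fe71dce379c6738be71458579c47387e70c24cb9c215f6e705ce079c00000e6fc57904d2737be6f5cde40007377e6ec00000007373000000039b8736fe6dc00039b6736be6d5cda79b472e5e5c1cd940007363e6c42e7f9b0735f0001cd74266735be6b5cd679ac0000e6adcd579aa73530001cd479a87317e69dcd34af0f34be695cd279a47347e68dcd179a2104c2b19cd079a0733fe67c25cf99e733b2bf22d9b99c7337e66dccd4adc95b52bd1ccc44cdf32fe65dccb7996732be655cca79947327e64dcc9799215a4e4a7cc87990731fe63dcb9b98e72b5e635cc6480e15b0e62c2c7f98a0953e625cc479880a26e61dcc34ad4f30be614289f9847307e60dcc17982098ce605cc0798014a0299dcbf797e72fbe5f5cbe4a489496291c526397a13cf290e522b97872efe5ddcbb44788ab9e5d42c5458b72e7e55e3fe797272e3)) (.leaf (nat_lit 0xefc4ecd7c1df7dfefbddf760df49cb9126f409e74f7d72a131ed3bea77d3efa5df45b4a77cfef9d2ab63c6c698ef952bb5f854699ef8d1e73be277c38eff1e064cc4a428d1ed72fbde3b33766bdee7bdc77b78905ded574ff7b357fd1ac5db4bb6aef5ddeb61f93e5b7c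bddea7bd4472868370dbbbd2436135189f3fbd0779f685fde757a0462c86d7de67bcc342268470dbfbca33ce67c3de47bc832f9ef1dde37bc6778bef1501efbc47787ef0cef11f8ebf20ef0507de0fcb8c47e06fa43bbe3e8e876ddde7bbc41c1eeec51f5b28f773eee501b7bb82bf1eedcb49fbb63db7eed4f27bbb43cffeecddd95ef37763729bdd8574f775fed88c4a3bae775beeb5dd67bac7757eeaddd57baa7753eea5dd44750a054ee9ddd35452774b4c5fdd27ba4774739d673b3ba27743ee85daf1c7e773fee7cb89ce77af43ee75dce5c587737ee6ddcd4ee5f733ee647413b9827d7ee5ddba3b96381e70d5dca7b94150aee4ddc97b92747852a473199de38873901dc74d4a2982ee35dc65bc6b44152c5dc27b8a29d2e8c4aae7b88770f390bdc35504f70bee14a82fb84294fee0ddc17b821da3ee04e2a19d237fe6ff5dbf7b7e20853b8fdbe4f07f6f7edeca0e172eae5aede5dbc5b3c76ef5c3fdbb7b7676eb688bdba5c101d51697fdb97b7276dc))) (.leaf (nat_lit 0x48608df883118c158468f398b2f5db56dfd767aec75d7ebac45b0c69165ceba4add91bf75cfeb9dd737ae6232ceb95d727ae475c7eb8dd7155bd2b78eb8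48d03ae07480eb7dd6f575075bbeb75d6e7adc2fa8eb6dd6d7ada2fd23052be89407f5af3c0bd6b57e4aaf0eb54a6bd4d8afb0eb4cbed9601f5a3eb4478115b71ae038d5d674ef8aca75952a575633f597eb2dd655540f593eb25d647ac8758feb1dd637ac6758b31dfd627ac47440eb0ca4cfac22e82eb04765fac0757f43c5d5f7abe757b33abd5e554c14b64a468263aba250eeae5d5c56952d2beadc62b7ab6756bead5d5a7ab41775eacdd597ab275634795d323ab0755feabc671950b2e30eab4a50d6a57557eaadd555664f553eaa5d5455ee754fea9dd537aa625dc57e5d527aa47547ea8c6447aa27543ea843d33aa0753f3c507a03a9e27034e0bd4e7a9c7537ea6c8c6557e2d1a2abeb455084aafd55fe559937926e33c40a69d2379e212abcb50969d954fea45d4855842ae455cdd474f2e751bea34addba8c7517ea2c3f3ba8a28faea24b2d07821feaea1c7a7fa862b40ea149287a8420edea0c9be47a4a002ea04ad47a8074ff0001d3f7a7e74fbe9f45843a7c74f72bd9d3d7a7a74f3e9e4000052d1e3714cc58b05b974ebe9d5d3a7a7474e75773d3955e774e3))))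
noncomputable def Wb14t (u : ℕ) : ℕ := force (Nat.shiftRight u (nat_lit 8)) fun j => Nat.land (Nat.shiftRight (Wb14td.get j) (Nat.mul (Nat.land u (nat_lit 255)) (nat_lit 15))) (nat_lit 32767)
@[irreducible] noncomputable def Eb14 (a : ℕ) : ℕ := force (Nat.sub a (nat_lit 29155)) Eb14t
@[irreducible] noncomputable def Jb14 (a : ℕ) : ℕ := force (Nat.sub a (nat_lit 29155)) Jb14t
@[irreducible] noncomputable def Wb14 (a : ℕ) : ℕ := force (Nat.sub a (nat_lit 29155)) Wb14t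
noncomputable def RLb14 : List (List Rule) := [[.rel (nat_lit 0) (nat_lit 0) [nat_lit 0], .rel (nat_lit 178) (nat_lit 0) [nat_lit 13, nat_lit 0, nat_lit 13], .rel (nat_lit 118) (nat_lit 0) [nat_lit 10, nat_lit 0, nat_lit 10], .rel (nat_lit 138) (nat_lit 1) [nat_lit 11, nat_lit 0, nat_lit 2, nat_lit 11], .rel (nat_lit 158) (nat_lit 1) [nat_lit 12, nat_lit 0, nat_lit 1, nat_lit 12], .rel (nat_lit 40) (nat_lit 1) [nat_lit 7, nat_lit 0, nat_lit 7], .rel (nat_lit 42) (nat_lit 1) [nat_lit 8, nat_lit 0, nat_lit 8], .rel (nat_lit 44) (nat_lit 1) [nat_lit 9, nat_lit 0, nat_lit 9], .rel (nat_lit 38) (nat_lit 1) [nat_lit 6, nat_lit 0, nat_lit 6], .rel (nat_lit 34) (nat_lit 1) [nat_lit 4, nat_lit 0, nat_lit 4], .rel (nat_lit 36) (nat_lit 1) [nat_lit 5, nat_lit 0, nat_lit 5], .rel (nat_lit 32) (nat_lit 1) [nat_lit 3, nat_lit 0, nat_lit 3], .rel (nat_lit 28) (nat_lit 1) [nat_lit 1, nat_lit 0, nat_lit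 1], .rel (nat_lit 30) (nat_lit 1) [nat_lit 2, nat_lit 0, nat_lit 2], .defn, .rel (nat_lit 138) (nat_lit 3) [nat_lit 2, nat_lit 11, nat_lit 0, nat_lit 11], .rel (nat_lit 158) (nat_lit 3) [nat_lit 1, nat_lit 12, nat_lit 0, nat_lit 12], .rel (nat_lit 78) (nat_lit 0) [nat_lit 5, nat_lit 3, nat_lit 5, nat_lit 3], .rel (nat_lit 79) (nat_lit 4) [nat_lit 3, nat_lit 5, nat_lit 3, nat_lit 5], .sub (nat_lit 0) [] [], .rel (nat_lit 139) (nat_lit 1) [nat_lit 11, nat_lit 0, nat_lit 11, nat_lit 2], .rel (nat_lit 159) (nat_lit 1) [nat_lit 12, nat_lit 0, nat_lit 12, nat_lit 1], .rel (nat_lit 159) (nat_lit 3) [nat_lit 12, nat_lit 1, nat_lit 0, nat_lit 12]],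
  [.rel (nat_lit 2) (nat_lit 0) [nat_lit 1], .rel (nat_lit 180) (nat_lit 0) [nat_lit 13, nat_lit 1, nat_lit 13], .rel (nat_lit 120) (nat_lit 3) [nat_lit 10, nat_lit 1, nat_lit 3, nat_lit 10], .rel (nat_lit 160) (nat_lit 1) [nat_lit 12, nat_lit 1, nat_lit 12], .rel (nat_lit 140) (nat_lit 1) [nat_lit 11, nat_lit 1, nat_lit 4, nat_lit 11], .rel (nat_lit 56) (nat_lit 1) [nat_lit 7, nat_lit 1, nat_lit 7], .rel (nat_lit 58) (nat_lit 1) [nat_lit 8, nat_lit 1, nat_lit 8], .rel (nat_lit 60) (nat_lit 2) [nat_lit 9, nat_lit 1, nat_lit 0, nat_lit 9], .rel (nat_lit 54) (nat_lit 1) [nat_lit 6, nat_lit 1, nat_lit 6], .rel (nat_lit 50) (nat_lit 1) [nat_lit 4, nat_lit 1, nat_lit 4], .rel (nat_lit 52) (nat_lit 1) [nat_lit 5, nat_lit 1, nat_lit 5], .rel (nat_lit 48) (nat_lit 1) [nat_lit 3, nat_lit 1, nat_lit 3], .defn, .rel (nat_lit 46) (nat_lit 1) [nat_lit 2, nat_lit 1, nat_lit 2], .rel (nat_lit 28)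 (nat_lit 0) [nat_lit 0, nat_lit 1, nat_lit 0], .rel (nat_lit 140) (nat_lit 3) [nat_lit 4, nat_lit 11, nat_lit 1, nat_lit 11], .rel (nat_lit 120) (nat_lit 0) [nat_lit 3, nat_lit 10, nat_lit 1, nat_lit 10], .rel (nat_lit 158) (nat_lit 4) [nat_lit 12, nat_lit 0, nat_lit 12, nat_lit 0], .rel (nat_lit 173) (nat_lit 1) [nat_lit 12, nat_lit 7, nat_lit 12, nat_lit 7], .rel (nat_lit 60) (nat_lit 4) [nat_lit 0, nat_lit 9, nat_lit 1, nat_lit 9], .rel (nat_lit 61) (nat_lit 0) [nat_lit 9, nat_lit 1, nat_lit 9, nat_lit 0], .rel (nat_lit 121) (nat_lit 4) [nat_lit 10, nat_lit 1, nat_lit 10, nat_lit 3], .rel (nat_lit 176) (nat_lit 3) [nat_lit 13, nat_lit 12, nat_lit 13, nat_lit 12], .rel (nat_lit 141) (nat_lit 1) [nat_lit 11, nat_lit 1, nat_lit 11, nat_lit 4], .rel (nat_lit 159) (nat_lit 0) [nat_lit 0, nat_lit 12, nat_lit 0, nat_lit 12], .rel (nat_lit 85) (nat_lit 4) [nat_lit 3, nat_lit 8, nat_lit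 3, nat_lit 8], .rel (nat_lit 172) (nat_lit 3) [nat_lit 7, nat_lit 12, nat_lit 7, nat_lit 12], .sub (nat_lit 2) [] [], .rel (nat_lit 84) (nat_lit 0) [nat_lit 8, nat_lit 3, nat_lit 8, nat_lit 3], .rel (nat_lit 91) (nat_lit 4) [nat_lit 4, nat_lit 6, nat_lit 4, nat_lit 6], .rel (nat_lit 170) (nat_lit 3) [nat_lit 6, nat_lit 8, nat_lit 12, nat_lit 6, nat_lit 12], .rel (nat_lit 177) (nat_lit 1) [nat_lit 12, nat_lit 13, nat_lit 12, nat_lit 13], .rel (nat_lit 206) (nat_lit 7) [nat_lit 10, nat_lit 12, nat_lit 3, nat_lit 2, nat_lit 0, nat_lit 5, nat_lit 1, nat_lit 10, nat_lit 12, nat_lit 3, nat_lit 2, nat_lit 0, nat_lit 5, nat_lit 1, nat_lit 10, nat_lit 12, nat_lit 3, nat_lit 2, nat_lit 0, nat_lit 5, nat_lit 1, nat_lit 10, nat_lit 6, nat_lit 11, nat_lit 12, nat_lit 3, nat_lit 2, nat_lit 0, nat_lit 5]],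
  [.rel (nat_lit 4) (nat_lit 0) [nat_lit 2], .rel (nat_lit 122) (nat_lit 0) [nat_lit 10, nat_lit 2, nat_lit 10], .rel (nat_lit 182) (nat_lit 3) [nat_lit 13, nat_lit 2, nat_lit 5, nat_lit 13], .rel (nat_lit 142) (nat_lit 1) [nat_lit 11, nat_lit 2, nat_lit 11], .rel (nat_lit 162) (nat_lit 1) [nat_lit 12, nat_lit 2, nat_lit 4, nat_lit 12], .rel (nat_lit 72) (nat_lit 1) [nat_lit 8, nat_lit 2, nat_lit 8], .rel (nat_lit 70) (nat_lit 1) [nat_lit 7, nat_lit 2, nat_lit 7], .rel (nat_lit 74) (nat_lit 1) [nat_lit 9, nat_lit 2, nat_lit 9], .rel (nat_lit 68) (nat_lit 2) [nat_lit 6, nat_lit 2, nat_lit 0, nat_lit 6], .rel (nat_lit 64) (nat_lit 1) [nat_lit 4, nat_lit 2, nat_lit 4], .rel (nat_lit 62) (nat_lit 1) [nat_lit 3, nat_lit 2, nat_lit 3], .rel (nat_lit 66) (nat_lit 1) [nat_lit 5, nat_lit 2, nat_lit 5], .defn, .rel (nat_lit 46) (nat_lit 0) [nat_lit 1, nat_lit 2, nat_lit 1], .rel (nat_lit 30)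 (nat_lit 0) [nat_lit 0, nat_lit 2, nat_lit 0], .rel (nat_lit 162) (nat_lit 3) [nat_lit 4, nat_lit 12, nat_lit 2, nat_lit 12], .rel (nat_lit 182) (nat_lit 0) [nat_lit 5, nat_lit 13, nat_lit 2, nat_lit 13], .rel (nat_lit 138) (nat_lit 4) [nat_lit 11, nat_lit 0, nat_lit 11, nat_lit 0], .rel (nat_lit 153) (nat_lit 1) [nat_lit 11, nat_lit 8, nat_lit 11, nat_lit 8], .rel (nat_lit 68) (nat_lit 4) [nat_lit 0, nat_lit 6, nat_lit 2, nat_lit 6], .rel (nat_lit 69) (nat_lit 0) [nat_lit 6, nat_lit 2, nat_lit 6, nat_lit 0], .rel (nat_lit 139) (nat_lit 0) [nat_lit 0, nat_lit 11, nat_lit 0, nat_lit 11], .rel (nat_lit 101) (nat_lit 4) [nat_lit 5, nat_lit 7, nat_lit 5, nat_lit 7], .rel (nat_lit 156) (nat_lit 3) [nat_lit 10, nat_lit 11, nat_lit 10, nat_lit 11], .rel (nat_lit 148) (nat_lit 3) [nat_lit 4, nat_lit 5, nat_lit 11, nat_lit 5, nat_lit 11], .rel (nat_lit 155) (nat_lit 2) [nat_lit 11, nat_lit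 9, nat_lit 11, nat_lit 9, nat_lit 7], .rel (nat_lit 157) (nat_lit 1) [nat_lit 11, nat_lit 10, nat_lit 11, nat_lit 10], .rel (nat_lit 163) (nat_lit 3) [nat_lit 12, nat_lit 4, nat_lit 2, nat_lit 12], .rel (nat_lit 183) (nat_lit 1) [nat_lit 13, nat_lit 5, nat_lit 2, nat_lit 13], .rel (nat_lit 183) (nat_lit 4) [nat_lit 13, nat_lit 2, nat_lit 13, nat_lit 5], .rel (nat_lit 154) (nat_lit 3) [nat_lit 7, nat_lit 9, nat_lit 11, nat_lit 9, nat_lit 11], .rel (nat_lit 163) (nat_lit 1) [nat_lit 12, nat_lit 2, nat_lit 12, nat_lit 4], .sub (nat_lit 4) [] [], .rel (nat_lit 69) (nat_lit 2) [nat_lit 6, nat_lit 0, nat_lit 2, nat_lit 6], .rel (nat_lit 96) (nat_lit 0) [nat_lit 9, nat_lit 4, nat_lit 9, nat_lit 4], .rel (nat_lit 97) (nat_lit 4) [nat_lit 4, nat_lit 9, nat_lit 4, nat_lit 9], .rel (nat_lit 149) (nat_lit 2) [nat_lit 11, nat_lit 5, nat_lit 11, nat_lit 5, nat_lit 4], .rel (nat_lit 152) (nat_lit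 3) [nat_lit 8, nat_lit 11, nat_lit 8, nat_lit 11], .rel (nat_lit 204) (nat_lit 2) [nat_lit 7, nat_lit 8, nat_lit 12, nat_lit 11, nat_lit 12, nat_lit 11, nat_lit 0, nat_lit 1], .rel (nat_lit 208) (nat_lit 7) [nat_lit 13, nat_lit 11, nat_lit 5, nat_lit 1, nat_lit 0, nat_lit 3, nat_lit 2, nat_lit 13, nat_lit 11, nat_lit 5, nat_lit 1, nat_lit 0, nat_lit 3, nat_lit 2, nat_lit 13, nat_lit 11, nat_lit 5, nat_lit 1, nat_lit 0, nat_lit 3, nat_lit 2, nat_lit 13, nat_lit 9, nat_lit 12, nat_lit 11, nat_lit 5, nat_lit 1, nat_lit 0, nat_lit 3]],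
  [.rel (nat_lit 6) (nat_lit 0) [nat_lit 3], .rel (nat_lit 124) (nat_lit 0) [nat_lit 10, nat_lit 3, nat_lit 10], .rel (nat_lit 184) (nat_lit 3) [nat_lit 13, nat_lit 3, nat_lit 6, nat_lit 13], .rel (nat_lit 144) (nat_lit 1) [nat_lit 11, nat_lit 3, nat_lit 7, nat_lit 11], .rel (nat_lit 164) (nat_lit 1) [nat_lit 12, nat_lit 1, nat_lit 3, nat_lit 4, nat_lit 12], .rel (nat_lit 82) (nat_lit 1) [nat_lit 7, nat_lit 3, nat_lit 7], .rel (nat_lit 84) (nat_lit 2) [nat_lit 8, nat_lit 3, nat_lit 1, nat_lit 8], .rel (nat_lit 86) (nat_lit 1) [nat_lit 9, nat_lit 3, nat_lit 9], .defn, .rel (nat_lit 80) (nat_lit 1) [nat_lit 6, nat_lit 3, nat_lit 6], .rel (nat_lit 76) (nat_lit 1) [nat_lit 4, nat_lit 3, nat_lit 4], .rel (nat_lit 78) (nat_lit 2) [nat_lit 5, nat_lit 3, nat_lit 0, nat_lit 5], .rel (nat_lit 48) (nat_lit 0) [nat_lit 1, nat_lit 3, nat_lit 1], .rel (nat_lit 62) (nat_lit 0) [nat_lit 2, nat_lit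 3, nat_lit 2], .rel (nat_lit 144) (nat_lit 3) [nat_lit 7, nat_lit 11, nat_lit 3, nat_lit 11], .rel (nat_lit 184) (nat_lit 0) [nat_lit 6, nat_lit 13, nat_lit 3, nat_lit 13], .rel (nat_lit 32) (nat_lit 0) [nat_lit 0, nat_lit 3, nat_lit 0], .rel (nat_lit 165) (nat_lit 4) [nat_lit 12, nat_lit 4, nat_lit 3, nat_lit 1, nat_lit 12], .rel (nat_lit 78) (nat_lit 4) [nat_lit 0, nat_lit 5, nat_lit 3, nat_lit 5], .rel (nat_lit 120) (nat_lit 1) [nat_lit 10, nat_lit 1, nat_lit 10, nat_lit 1], .rel (nat_lit 84) (nat_lit 4) [nat_lit 1, nat_lit 8, nat_lit 3, nat_lit 8], .rel (nat_lit 79) (nat_lit 0) [nat_lit 5, nat_lit 3, nat_lit 5, nat_lit 0], .rel (nat_lit 85) (nat_lit 0) [nat_lit 8, nat_lit 3, nat_lit 8, nat_lit 1], .rel (nat_lit 185) (nat_lit 4) [nat_lit 13, nat_lit 3, nat_lit 13, nat_lit 6], .rel (nat_lit 106) (nat_lit 0) [nat_lit 7, nat_lit 6, nat_lit 7, nat_lit 6], .rel (nat_lit 107) (nat_lit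 4) [nat_lit 6, nat_lit 7, nat_lit 6, nat_lit 7], .rel (nat_lit 121) (nat_lit 3) [nat_lit 1, nat_lit 10, nat_lit 1, nat_lit 10], .rel (nat_lit 145) (nat_lit 3) [nat_lit 11, nat_lit 7, nat_lit 3, nat_lit 11], .rel (nat_lit 164) (nat_lit 4) [nat_lit 4, nat_lit 12, nat_lit 3, nat_lit 12, nat_lit 1], .rel (nat_lit 185) (nat_lit 1) [nat_lit 13, nat_lit 6, nat_lit 3, nat_lit 13], .rel (nat_lit 145) (nat_lit 1) [nat_lit 11, nat_lit 3, nat_lit 11, nat_lit 7], .rel (nat_lit 165) (nat_lit 1) [nat_lit 1, nat_lit 12, nat_lit 3, nat_lit 12, nat_lit 4], .rel (nat_lit 79) (nat_lit 2) [nat_lit 5, nat_lit 0, nat_lit 3, nat_lit 5], .rel (nat_lit 207) (nat_lit 5) [nat_lit 12, nat_lit 10, nat_lit 1, nat_lit 5, nat_lit 0, nat_lit 2, nat_lit 3, nat_lit 12, nat_lit 10, nat_lit 1, nat_lit 5, nat_lit 0, nat_lit 2, nat_lit 3, nat_lit 12, nat_lit 10, nat_lit 1, nat_lit 5, nat_lit 0, nat_lit 2, nat_lit 3, nat_lit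 12, nat_lit 11, nat_lit 6, nat_lit 10, nat_lit 1, nat_lit 5, nat_lit 0, nat_lit 2], .sub (nat_lit 6) [] []],
  [.rel (nat_lit 8) (nat_lit 0) [nat_lit 4], .rel (nat_lit 126) (nat_lit 3) [nat_lit 10, nat_lit 4, nat_lit 7, nat_lit 10], .rel (nat_lit 186) (nat_lit 3) [nat_lit 13, nat_lit 4, nat_lit 8, nat_lit 13], .rel (nat_lit 166) (nat_lit 1) [nat_lit 12, nat_lit 4, nat_lit 12], .rel (nat_lit 146) (nat_lit 1) [nat_lit 11, nat_lit 4, nat_lit 11], .defn, .rel (nat_lit 92) (nat_lit 1) [nat_lit 7, nat_lit 4, nat_lit 7], .rel (nat_lit 94) (nat_lit 1) [nat_lit 8, nat_lit 4, nat_lit 8], .rel (nat_lit 96) (nat_lit 2) [nat_lit 9, nat_lit 4, nat_lit 2, nat_lit 9], .rel (nat_lit 90) (nat_lit 2) [nat_lit 6, nat_lit 4, nat_lit 1, nat_lit 6], .rel (nat_lit 88) (nat_lit 1) [nat_lit 5, nat_lit 4, nat_lit 5], .rel (nat_lit 76) (nat_lit 0) [nat_lit 3, nat_lit 4, nat_lit 3], .rel (nat_lit 50) (nat_lit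 0) [nat_lit 1, nat_lit 4, nat_lit 1], .rel (nat_lit 64) (nat_lit 0) [nat_lit 2, nat_lit 4, nat_lit 2], .rel (nat_lit 34) (nat_lit 0) [nat_lit 0, nat_lit 4, nat_lit 0], .rel (nat_lit 186) (nat_lit 0) [nat_lit 8, nat_lit 13, nat_lit 4, nat_lit 13], .rel (nat_lit 126) (nat_lit 0) [nat_lit 7, nat_lit 10, nat_lit 4, nat_lit 10], .rel (nat_lit 162) (nat_lit 4) [nat_lit 12, nat_lit 2, nat_lit 12, nat_lit 2], .rel (nat_lit 97) (nat_lit 0) [nat_lit 9, nat_lit 4, nat_lit 9, nat_lit 2], .rel (nat_lit 164) (nat_lit 5) [nat_lit 12, nat_lit 3, nat_lit 12, nat_lit 1, nat_lit 3], .rel (nat_lit 91) (nat_lit 0) [nat_lit 6, nat_lit 4, nat_lit 6, nat_lit 1], .rel (nat_lit 140) (nat_lit 4) [nat_lit 11, nat_lit 1, nat_lit 11, nat_lit 1], .rel (nat_lit 96) (nat_lit 4) [nat_lit 2, nat_lit 9, nat_lit 4, nat_lit 9], .rel (nat_lit 141) (nat_lit 0) [nat_lit 1, nat_lit 11, nat_lit 1, nat_lit 11], .rel (nat_lit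 90) (nat_lit 4) [nat_lit 1, nat_lit 6, nat_lit 4, nat_lit 6], .rel (nat_lit 127) (nat_lit 4) [nat_lit 10, nat_lit 4, nat_lit 10, nat_lit 7], .rel (nat_lit 187) (nat_lit 4) [nat_lit 13, nat_lit 4, nat_lit 13, nat_lit 8], .rel (nat_lit 149) (nat_lit 1) [nat_lit 2, nat_lit 11, nat_lit 5, nat_lit 11, nat_lit 5], .rel (nat_lit 163) (nat_lit 0) [nat_lit 2, nat_lit 12, nat_lit 2, nat_lit 12], .rel (nat_lit 165) (nat_lit 0) [nat_lit 3, nat_lit 1, nat_lit 12, nat_lit 3, nat_lit 12], .rel (nat_lit 148) (nat_lit 4) [nat_lit 5, nat_lit 11, nat_lit 5, nat_lit 11, nat_lit 2], .rel (nat_lit 112) (nat_lit 0) [nat_lit 8, nat_lit 7, nat_lit 8, nat_lit 7], .sub (nat_lit 8) [] [], .rel (nat_lit 91) (nat_lit 2) [nat_lit 6, nat_lit 1, nat_lit 4, nat_lit 6], .rel (nat_lit 113) (nat_lit 4) [nat_lit 7, nat_lit 8, nat_lit 7, nat_lit 8], .rel (nat_lit 127) (nat_lit 1) [nat_lit 10, nat_lit 7, nat_lit 4, nat_lit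 10]],
  [.rel (nat_lit 10) (nat_lit 0) [nat_lit 5], .rel (nat_lit 188) (nat_lit 0) [nat_lit 13, nat_lit 5, nat_lit 13], .rel (nat_lit 128) (nat_lit 3) [nat_lit 10, nat_lit 5, nat_lit 9, nat_lit 10], .rel (nat_lit 148) (nat_lit 1) [nat_lit 11, nat_lit 2, nat_lit 4, nat_lit 5, nat_lit 11], .rel (nat_lit 100) (nat_lit 2) [nat_lit 7, nat_lit 5, nat_lit 2, nat_lit 7], .rel (nat_lit 168) (nat_lit 1) [nat_lit 12, nat_lit 5, nat_lit 8, nat_lit 12], .rel (nat_lit 102) (nat_lit 1) [nat_lit 8, nat_lit 5, nat_lit 8], .rel (nat_lit 104) (nat_lit 1) [nat_lit 9, nat_lit 5, nat_lit 9], .defn, .rel (nat_lit 98) (nat_lit 1) [nat_lit 6, nat_lit 5, nat_lit 6], .rel (nat_lit 88) (nat_lit 0) [nat_lit 4, nat_lit 5, nat_lit 4], .rel (nat_lit 78) (nat_lit 3) [nat_lit 3, nat_lit 0, nat_lit 5, nat_lit 3], .rel (nat_lit 66) (nat_lit 0) [nat_lit 2, nat_lit 5, nat_lit 2], .rel (nat_lit 52) (nat_lit 0) [nat_lit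 1, nat_lit 5, nat_lit 1], .rel (nat_lit 168) (nat_lit 3) [nat_lit 8, nat_lit 12, nat_lit 5, nat_lit 12], .rel (nat_lit 149) (nat_lit 0) [nat_lit 4, nat_lit 2, nat_lit 11, nat_lit 5, nat_lit 11], .rel (nat_lit 128) (nat_lit 0) [nat_lit 9, nat_lit 10, nat_lit 5, nat_lit 10], .rel (nat_lit 36) (nat_lit 0) [nat_lit 0, nat_lit 5, nat_lit 0], .rel (nat_lit 148) (nat_lit 5) [nat_lit 11, nat_lit 5, nat_lit 11, nat_lit 2, nat_lit 4], .rel (nat_lit 149) (nat_lit 4) [nat_lit 11, nat_lit 5, nat_lit 4, nat_lit 2, nat_lit 11], .rel (nat_lit 78) (nat_lit 1) [nat_lit 3, nat_lit 5, nat_lit 3, nat_lit 0], .rel (nat_lit 183) (nat_lit 3) [nat_lit 2, nat_lit 13, nat_lit 2, nat_lit 13], .rel (nat_lit 79) (nat_lit 1) [nat_lit 3, nat_lit 5, nat_lit 0, nat_lit 3], .rel (nat_lit 169) (nat_lit 1) [nat_lit 12, nat_lit 5, nat_lit 12, nat_lit 8], .rel (nat_lit 79) (nat_lit 3) [nat_lit 0, nat_lit 3, nat_lit 5,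 nat_lit 3], .rel (nat_lit 182) (nat_lit 1) [nat_lit 13, nat_lit 2, nat_lit 13, nat_lit 2], .rel (nat_lit 100) (nat_lit 4) [nat_lit 2, nat_lit 7, nat_lit 5, nat_lit 7], .rel (nat_lit 101) (nat_lit 0) [nat_lit 7, nat_lit 5, nat_lit 7, nat_lit 2], .rel (nat_lit 169) (nat_lit 3) [nat_lit 12, nat_lit 8, nat_lit 5, nat_lit 12], .rel (nat_lit 116) (nat_lit 0) [nat_lit 9, nat_lit 8, nat_lit 9, nat_lit 8], .rel (nat_lit 117) (nat_lit 4) [nat_lit 8, nat_lit 9, nat_lit 8, nat_lit 9], .rel (nat_lit 129) (nat_lit 4) [nat_lit 10, nat_lit 5, nat_lit 10, nat_lit 9], .rel (nat_lit 101) (nat_lit 2) [nat_lit 7, nat_lit 2, nat_lit 5, nat_lit 7], .sub (nat_lit 10) [] [], .rel (nat_lit 129) (nat_lit 1) [nat_lit 10, nat_lit 9, nat_lit 5, nat_lit 10]],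
  [.rel (nat_lit 12) (nat_lit 0) [nat_lit 6], .rel (nat_lit 130) (nat_lit 0) [nat_lit 10, nat_lit 6, nat_lit 10], .rel (nat_lit 190) (nat_lit 0) [nat_lit 13, nat_lit 6, nat_lit 13], .defn, .rel (nat_lit 106) (nat_lit 2) [nat_lit 7, nat_lit 6, nat_lit 3, nat_lit 7], .rel (nat_lit 110) (nat_lit 1) [nat_lit 9, nat_lit 6, nat_lit 9], .rel (nat_lit 170) (nat_lit 1) [nat_lit 12, nat_lit 1, nat_lit 6, nat_lit 8, nat_lit 12], .rel (nat_lit 108) (nat_lit 1) [nat_lit 8, nat_lit 6, nat_lit 8], .rel (nat_lit 90) (nat_lit 3) [nat_lit 4, nat_lit 1, nat_lit 6, nat_lit 4], .rel (nat_lit 80) (nat_lit 0) [nat_lit 3, nat_lit 6, nat_lit 3], .rel (nat_lit 200) (nat_lit 1) [nat_lit 11, nat_lit 6, nat_lit 11, nat_lit 6, nat_lit 11], .rel (nat_lit 98) (nat_lit 0) [nat_lit 5, nat_lit 6, nat_lit 5], .rel (nat_lit 54) (nat_lit 0) [nat_lit 1, nat_lit 6, nat_lit 1], .rel (nat_lit 68) (nat_lit 3) [nat_lit 2, nat_lit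 0, nat_lit 6, nat_lit 2], .rel (nat_lit 171) (nat_lit 4) [nat_lit 12, nat_lit 8, nat_lit 6, nat_lit 1, nat_lit 12], .rel (nat_lit 184) (nat_lit 1) [nat_lit 13, nat_lit 3, nat_lit 13, nat_lit 3], .rel (nat_lit 38) (nat_lit 0) [nat_lit 0, nat_lit 6, nat_lit 0], .rel (nat_lit 107) (nat_lit 0) [nat_lit 7, nat_lit 6, nat_lit 7, nat_lit 3], .rel (nat_lit 185) (nat_lit 3) [nat_lit 3, nat_lit 13, nat_lit 3, nat_lit 13], .rel (nat_lit 69) (nat_lit 3) [nat_lit 0, nat_lit 2, nat_lit 6, nat_lit 2], .rel (nat_lit 90) (nat_lit 1) [nat_lit 4, nat_lit 6, nat_lit 4, nat_lit 1], .rel (nat_lit 106) (nat_lit 4) [nat_lit 3, nat_lit 7, nat_lit 6, nat_lit 7], .rel (nat_lit 170) (nat_lit 4) [nat_lit 8, nat_lit 12, nat_lit 6, nat_lit 12, nat_lit 1], .rel (nat_lit 68) (nat_lit 1) [nat_lit 2, nat_lit 6, nat_lit 2, nat_lit 0], .rel (nat_lit 69) (nat_lit 1) [nat_lit 2, nat_lit 6, nat_lit 0, nat_lit 2], .rel (nat_lit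 91) (nat_lit 3) [nat_lit 1, nat_lit 4, nat_lit 6, nat_lit 4], .rel (nat_lit 171) (nat_lit 1) [nat_lit 1, nat_lit 12, nat_lit 6, nat_lit 12, nat_lit 8], .rel (nat_lit 91) (nat_lit 1) [nat_lit 4, nat_lit 6, nat_lit 1, nat_lit 4], .rel (nat_lit 207) (nat_lit 29) [nat_lit 10, nat_lit 1, nat_lit 5, nat_lit 0, nat_lit 2, nat_lit 3, nat_lit 12, nat_lit 10, nat_lit 1, nat_lit 5, nat_lit 0, nat_lit 2, nat_lit 3, nat_lit 12, nat_lit 10, nat_lit 1, nat_lit 5, nat_lit 0, nat_lit 2, nat_lit 3, nat_lit 12, nat_lit 10, nat_lit 1, nat_lit 5, nat_lit 0, nat_lit 2, nat_lit 3, nat_lit 12, nat_lit 11], .sub (nat_lit 12) [] [], .rel (nat_lit 107) (nat_lit 2) [nat_lit 7, nat_lit 3, nat_lit 6, nat_lit 7]],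
  [.rel (nat_lit 14) (nat_lit 0) [nat_lit 7], .defn, .rel (nat_lit 132) (nat_lit 0) [nat_lit 10, nat_lit 7, nat_lit 10], .rel (nat_lit 150) (nat_lit 1) [nat_lit 11, nat_lit 7, nat_lit 11], .rel (nat_lit 172) (nat_lit 1) [nat_lit 12, nat_lit 1, nat_lit 7, nat_lit 12], .rel (nat_lit 112) (nat_lit 2) [nat_lit 8, nat_lit 7, nat_lit 4, nat_lit 8], .rel (nat_lit 114) (nat_lit 1) [nat_lit 9, nat_lit 7, nat_lit 9], .rel (nat_lit 106) (nat_lit 3) [nat_lit 6, nat_lit 3, nat_lit 7, nat_lit 6], .rel (nat_lit 92) (nat_lit 0) [nat_lit 4, nat_lit 7, nat_lit 4], .rel (nat_lit 196) (nat_lit 1) [nat_lit 13, nat_lit 7, nat_lit 13, nat_lit 7, nat_lit 13], .rel (nat_lit 82) (nat_lit 0) [nat_lit 3, nat_lit 7, nat_lit 3], .rel (nat_lit 100) (nat_lit 3) [nat_lit 5, nat_lit 2, nat_lit 7, nat_lit 5], .rel (nat_lit 56) (nat_lit 0) [nat_lit 1, nat_lit 7, nat_lit 1], .rel (nat_lit 70) (nat_lit 0) [nat_lit 2,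 nat_lit 7, nat_lit 2], .rel (nat_lit 40) (nat_lit 0) [nat_lit 0, nat_lit 7, nat_lit 0], .rel (nat_lit 173) (nat_lit 0) [nat_lit 1, nat_lit 12, nat_lit 7, nat_lit 12], .rel (nat_lit 172) (nat_lit 4) [nat_lit 12, nat_lit 7, nat_lit 12, nat_lit 1], .rel (nat_lit 106) (nat_lit 1) [nat_lit 6, nat_lit 7, nat_lit 6, nat_lit 3], .rel (nat_lit 127) (nat_lit 3) [nat_lit 4, nat_lit 10, nat_lit 4, nat_lit 10], .rel (nat_lit 100) (nat_lit 1) [nat_lit 5, nat_lit 7, nat_lit 5, nat_lit 2], .rel (nat_lit 144) (nat_lit 4) [nat_lit 11, nat_lit 3, nat_lit 11, nat_lit 3], .rel (nat_lit 112) (nat_lit 4) [nat_lit 4, nat_lit 8, nat_lit 7, nat_lit 8], .rel (nat_lit 145) (nat_lit 0) [nat_lit 3, nat_lit 11, nat_lit 3, nat_lit 11], .rel (nat_lit 107) (nat_lit 3) [nat_lit 3, nat_lit 6, nat_lit 7, nat_lit 6], .rel (nat_lit 126) (nat_lit 1) [nat_lit 10, nat_lit 4, nat_lit 10, nat_lit 4], .rel (nat_lit 154) (nat_lit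 4) [nat_lit 9, nat_lit 11, nat_lit 9, nat_lit 11, nat_lit 2], .rel (nat_lit 101) (nat_lit 3) [nat_lit 2, nat_lit 5, nat_lit 7, nat_lit 5], .rel (nat_lit 101) (nat_lit 1) [nat_lit 5, nat_lit 7, nat_lit 2, nat_lit 5], .rel (nat_lit 107) (nat_lit 1) [nat_lit 6, nat_lit 7, nat_lit 3, nat_lit 6], .rel (nat_lit 113) (nat_lit 0) [nat_lit 8, nat_lit 7, nat_lit 8, nat_lit 4], .rel (nat_lit 155) (nat_lit 1) [nat_lit 2, nat_lit 11, nat_lit 9, nat_lit 11, nat_lit 9], .rel (nat_lit 173) (nat_lit 3) [nat_lit 12, nat_lit 7, nat_lit 1, nat_lit 12], .rel (nat_lit 198) (nat_lit 3) [nat_lit 13, nat_lit 7, nat_lit 8, nat_lit 10, nat_lit 8, nat_lit 7, nat_lit 13, nat_lit 7, nat_lit 8, nat_lit 10, nat_lit 8, nat_lit 7, nat_lit 13, nat_lit 7, nat_lit 8, nat_lit 10, nat_lit 8], .rel (nat_lit 113) (nat_lit 2) [nat_lit 8, nat_lit 4, nat_lit 7, nat_lit 8], .sub (nat_lit 14) [] [], .rel (nat_lit 198) (nat_lit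 5) [nat_lit 8, nat_lit 10, nat_lit 8, nat_lit 7, nat_lit 13, nat_lit 7, nat_lit 8, nat_lit 10, nat_lit 8, nat_lit 7, nat_lit 13, nat_lit 7, nat_lit 8, nat_lit 10, nat_lit 8, nat_lit 7, nat_lit 13]],
  [.rel (nat_lit 16) (nat_lit 0) [nat_lit 8], .defn, .rel (nat_lit 192) (nat_lit 0) [nat_lit 13, nat_lit 8, nat_lit 13], .rel (nat_lit 152) (nat_lit 1) [nat_lit 11, nat_lit 2, nat_lit 8, nat_lit 11], .rel (nat_lit 174) (nat_lit 1) [nat_lit 12, nat_lit 8, nat_lit 12], .rel (nat_lit 112) (nat_lit 3) [nat_lit 7, nat_lit 4, nat_lit 8, nat_lit 7], .rel (nat_lit 116) (nat_lit 2) [nat_lit 9, nat_lit 8, nat_lit 5, nat_lit 9], .rel (nat_lit 108) (nat_lit 0) [nat_lit 6, nat_lit 8, nat_lit 6], .rel (nat_lit 94) (nat_lit 0) [nat_lit 4, nat_lit 8, nat_lit 4], .rel (nat_lit 136) (nat_lit 1) [nat_lit 10, nat_lit 8, nat_lit 10, nat_lit 8, nat_lit 10], .rel (nat_lit 102) (nat_lit 0) [nat_lit 5, nat_lit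 8, nat_lit 5], .rel (nat_lit 84) (nat_lit 3) [nat_lit 3, nat_lit 1, nat_lit 8, nat_lit 3], .rel (nat_lit 72) (nat_lit 0) [nat_lit 2, nat_lit 8, nat_lit 2], .rel (nat_lit 58) (nat_lit 0) [nat_lit 1, nat_lit 8, nat_lit 1], .rel (nat_lit 42) (nat_lit 0) [nat_lit 0, nat_lit 8, nat_lit 0], .rel (nat_lit 152) (nat_lit 4) [nat_lit 11, nat_lit 8, nat_lit 11, nat_lit 2], .rel (nat_lit 153) (nat_lit 0) [nat_lit 2, nat_lit 11, nat_lit 8, nat_lit 11], .rel (nat_lit 117) (nat_lit 0) [nat_lit 9, nat_lit 8, nat_lit 9, nat_lit 5], .rel (nat_lit 169) (nat_lit 0) [nat_lit 5, nat_lit 12, nat_lit 5, nat_lit 12], .rel (nat_lit 168) (nat_lit 4) [nat_lit 12, nat_lit 5, nat_lit 12, nat_lit 5], .rel (nat_lit 84) (nat_lit 1) [nat_lit 3, nat_lit 8, nat_lit 3, nat_lit 1], .rel (nat_lit 186) (nat_lit 1) [nat_lit 13, nat_lit 4, nat_lit 13, nat_lit 4], .rel (nat_lit 187) (nat_lit 3) [nat_lit 4, nat_lit 13, nat_lit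 4, nat_lit 13], .rel (nat_lit 170) (nat_lit 5) [nat_lit 12, nat_lit 6, nat_lit 12, nat_lit 1, nat_lit 6], .rel (nat_lit 112) (nat_lit 1) [nat_lit 7, nat_lit 8, nat_lit 7, nat_lit 4], .rel (nat_lit 116) (nat_lit 4) [nat_lit 5, nat_lit 9, nat_lit 8, nat_lit 9], .rel (nat_lit 85) (nat_lit 3) [nat_lit 1, nat_lit 3, nat_lit 8, nat_lit 3], .rel (nat_lit 113) (nat_lit 3) [nat_lit 4, nat_lit 7, nat_lit 8, nat_lit 7], .rel (nat_lit 171) (nat_lit 0) [nat_lit 6, nat_lit 1, nat_lit 12, nat_lit 6, nat_lit 12], .rel (nat_lit 85) (nat_lit 1) [nat_lit 3, nat_lit 8, nat_lit 1, nat_lit 3], .rel (nat_lit 113) (nat_lit 1) [nat_lit 7, nat_lit 8, nat_lit 4, nat_lit 7], .rel (nat_lit 117) (nat_lit 2) [nat_lit 9, nat_lit 5, nat_lit 8, nat_lit 9], .rel (nat_lit 153) (nat_lit 3) [nat_lit 11, nat_lit 8, nat_lit 2, nat_lit 11], .rel (nat_lit 198) (nat_lit 0) [nat_lit 10, nat_lit 8, nat_lit 7, nat_lit 13, nat_lit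 7, nat_lit 8, nat_lit 10, nat_lit 8, nat_lit 7, nat_lit 13, nat_lit 7, nat_lit 8, nat_lit 10, nat_lit 8, nat_lit 7, nat_lit 13, nat_lit 7], .sub (nat_lit 16) [] [], .rel (nat_lit 204) (nat_lit 4) [nat_lit 12, nat_lit 11, nat_lit 12, nat_lit 11, nat_lit 0, nat_lit 1, nat_lit 2, nat_lit 7]],
  [.rel (nat_lit 18) (nat_lit 0) [nat_lit 9], .rel (nat_lit 194) (nat_lit 0) [nat_lit 13, nat_lit 9, nat_lit 13], .defn, .rel (nat_lit 134) (nat_lit 0) [nat_lit 10, nat_lit 9, nat_lit 10], .rel (nat_lit 154) (nat_lit 1) [nat_lit 11, nat_lit 2, nat_lit 7, nat_lit 9, nat_lit 11], .rel (nat_lit 116) (nat_lit 3) [nat_lit 8, nat_lit 5, nat_lit 9, nat_lit 8], .rel (nat_lit 114) (nat_lit 0) [nat_lit 7, nat_lit 9, nat_lit 7], .rel (nat_lit 110) (nat_lit 0) [nat_lit 6, nat_lit 9, nat_lit 6], .rel (nat_lit 202) (nat_lit 1) [nat_lit 12, nat_lit 9, nat_lit 12, nat_lit 9, nat_lit 12], .rel (nat_lit 104) (nat_lit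 0) [nat_lit 5, nat_lit 9, nat_lit 5], .rel (nat_lit 96) (nat_lit 3) [nat_lit 4, nat_lit 2, nat_lit 9, nat_lit 4], .rel (nat_lit 86) (nat_lit 0) [nat_lit 3, nat_lit 9, nat_lit 3], .rel (nat_lit 74) (nat_lit 0) [nat_lit 2, nat_lit 9, nat_lit 2], .rel (nat_lit 60) (nat_lit 3) [nat_lit 1, nat_lit 0, nat_lit 9, nat_lit 1], .rel (nat_lit 155) (nat_lit 0) [nat_lit 7, nat_lit 2, nat_lit 11, nat_lit 9, nat_lit 11], .rel (nat_lit 155) (nat_lit 4) [nat_lit 11, nat_lit 9, nat_lit 7, nat_lit 2, nat_lit 11], .rel (nat_lit 154) (nat_lit 5) [nat_lit 11, nat_lit 9, nat_lit 11, nat_lit 2, nat_lit 7], .rel (nat_lit 128) (nat_lit 1) [nat_lit 10, nat_lit 5, nat_lit 10, nat_lit 5], .rel (nat_lit 44) (nat_lit 0) [nat_lit 0, nat_lit 9, nat_lit 0], .rel (nat_lit 116) (nat_lit 1) [nat_lit 8, nat_lit 9, nat_lit 8, nat_lit 5], .rel (nat_lit 129) (nat_lit 3) [nat_lit 5, nat_lit 10, nat_lit 5, nat_lit 10], .rel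 (nat_lit 96) (nat_lit 1) [nat_lit 4, nat_lit 9, nat_lit 4, nat_lit 2], .rel (nat_lit 61) (nat_lit 3) [nat_lit 0, nat_lit 1, nat_lit 9, nat_lit 1], .rel (nat_lit 117) (nat_lit 3) [nat_lit 5, nat_lit 8, nat_lit 9, nat_lit 8], .rel (nat_lit 97) (nat_lit 3) [nat_lit 2, nat_lit 4, nat_lit 9, nat_lit 4], .rel (nat_lit 60) (nat_lit 1) [nat_lit 1, nat_lit 9, nat_lit 1, nat_lit 0], .rel (nat_lit 61) (nat_lit 1) [nat_lit 1, nat_lit 9, nat_lit 0, nat_lit 1], .rel (nat_lit 117) (nat_lit 1) [nat_lit 8, nat_lit 9, nat_lit 5, nat_lit 8], .sub (nat_lit 18) [] [], .rel (nat_lit 97) (nat_lit 1) [nat_lit 4, nat_lit 9, nat_lit 2, nat_lit 4]],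
  [.rel (nat_lit 20) (nat_lit 0) [nat_lit 10], .defn, .rel (nat_lit 156) (nat_lit 1) [nat_lit 11, nat_lit 2, nat_lit 10, nat_lit 11], .rel (nat_lit 136) (nat_lit 0) [nat_lit 8, nat_lit 10, nat_lit 8, nat_lit 10, nat_lit 8], .rel (nat_lit 126) (nat_lit 4) [nat_lit 4, nat_lit 7, nat_lit 10, nat_lit 4], .rel (nat_lit 130) (nat_lit 1) [nat_lit 6, nat_lit 10, nat_lit 6], .rel (nat_lit 132) (nat_lit 1) [nat_lit 7, nat_lit 10, nat_lit 7], .rel (nat_lit 134) (nat_lit 1) [nat_lit 9, nat_lit 10, nat_lit 9], .rel (nat_lit 128) (nat_lit 4) [nat_lit 5, nat_lit 9, nat_lit 10, nat_lit 5], .rel (nat_lit 124) (nat_lit 1) [nat_lit 3, nat_lit 10, nat_lit 3], .rel (nat_lit 120) (nat_lit 4) [nat_lit 1, nat_lit 3, nat_lit 10, nat_lit 1], .rel (nat_lit 122) (nat_lit 1) [nat_lit 2, nat_lit 10, nat_lit 2], .rel (nat_lit 126) (nat_lit 2) [nat_lit 4, nat_lit 10, nat_lit 4, nat_lit 7], .rel (nat_lit 128) (nat_lit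 2) [nat_lit 5, nat_lit 10, nat_lit 5, nat_lit 9], .rel (nat_lit 118) (nat_lit 1) [nat_lit 0, nat_lit 10, nat_lit 0], .rel (nat_lit 156) (nat_lit 4) [nat_lit 11, nat_lit 10, nat_lit 11, nat_lit 2], .rel (nat_lit 120) (nat_lit 2) [nat_lit 1, nat_lit 10, nat_lit 1, nat_lit 3], .rel (nat_lit 157) (nat_lit 0) [nat_lit 2, nat_lit 11, nat_lit 10, nat_lit 11], .rel (nat_lit 129) (nat_lit 2) [nat_lit 9, nat_lit 5, nat_lit 10, nat_lit 5], .rel (nat_lit 127) (nat_lit 2) [nat_lit 7, nat_lit 4, nat_lit 10, nat_lit 4], .rel (nat_lit 121) (nat_lit 2) [nat_lit 3, nat_lit 1, nat_lit 10, nat_lit 1], .rel (nat_lit 121) (nat_lit 0) [nat_lit 1, nat_lit 10, nat_lit 3, nat_lit 1], .rel (nat_lit 127) (nat_lit 0) [nat_lit 4, nat_lit 10, nat_lit 7, nat_lit 4], .rel (nat_lit 129) (nat_lit 0) [nat_lit 5, nat_lit 10, nat_lit 9, nat_lit 5], .rel (nat_lit 157) (nat_lit 3) [nat_lit 11, nat_lit 10, nat_lit 2, nat_lit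 11], .rel (nat_lit 198) (nat_lit 1) [nat_lit 8, nat_lit 7, nat_lit 13, nat_lit 7, nat_lit 8, nat_lit 10, nat_lit 8, nat_lit 7, nat_lit 13, nat_lit 7, nat_lit 8, nat_lit 10, nat_lit 8, nat_lit 7, nat_lit 13, nat_lit 7, nat_lit 8], .rel (nat_lit 207) (nat_lit 7) [nat_lit 1, nat_lit 5, nat_lit 0, nat_lit 2, nat_lit 3, nat_lit 12, nat_lit 10, nat_lit 1, nat_lit 5, nat_lit 0, nat_lit 2, nat_lit 3, nat_lit 12, nat_lit 10, nat_lit 1, nat_lit 5, nat_lit 0, nat_lit 2, nat_lit 3, nat_lit 12, nat_lit 11, nat_lit 6, nat_lit 10, nat_lit 1, nat_lit 5, nat_lit 0, nat_lit 2, nat_lit 3, nat_lit 12], .rel (nat_lit 207) (nat_lit 14) [nat_lit 1, nat_lit 5, nat_lit 0, nat_lit 2, nat_lit 3, nat_lit 12, nat_lit 10, nat_lit 1, nat_lit 5, nat_lit 0, nat_lit 2, nat_lit 3, nat_lit 12, nat_lit 11, nat_lit 6, nat_lit 10, nat_lit 1, nat_lit 5, nat_lit 0, nat_lit 2, nat_lit 3, nat_lit 12, nat_lit 10, nat_lit 1,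 nat_lit 5, nat_lit 0, nat_lit 2, nat_lit 3, nat_lit 12], .sub (nat_lit 20) [] []],
  [.rel (nat_lit 22) (nat_lit 0) [nat_lit 11], .defn, .rel (nat_lit 156) (nat_lit 2) [nat_lit 2, nat_lit 10, nat_lit 11, nat_lit 10], .rel (nat_lit 200) (nat_lit 0) [nat_lit 6, nat_lit 11, nat_lit 6, nat_lit 11, nat_lit 6], .rel (nat_lit 150) (nat_lit 0) [nat_lit 7, nat_lit 11, nat_lit 7], .rel (nat_lit 152) (nat_lit 2) [nat_lit 2, nat_lit 8, nat_lit 11, nat_lit 8], .rel (nat_lit 154) (nat_lit 2) [nat_lit 2, nat_lit 7, nat_lit 9, nat_lit 11, nat_lit 9], .rel (nat_lit 146) (nat_lit 0) [nat_lit 4, nat_lit 11, nat_lit 4], .rel (nat_lit 154) (nat_lit 0) [nat_lit 9, nat_lit 11, nat_lit 2, nat_lit 7, nat_lit 9], .rel (nat_lit 144) (nat_lit 2) [nat_lit 3, nat_lit 7, nat_lit 11, nat_lit 3], .rel (nat_lit 144) (nat_lit 0) [nat_lit 3, nat_lit 11, nat_lit 3, nat_lit 7], .rel (nat_lit 156) (nat_lit 0) [nat_lit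 10, nat_lit 11, nat_lit 2, nat_lit 10], .rel (nat_lit 148) (nat_lit 2) [nat_lit 2, nat_lit 4, nat_lit 5, nat_lit 11, nat_lit 5], .rel (nat_lit 140) (nat_lit 2) [nat_lit 1, nat_lit 4, nat_lit 11, nat_lit 1], .rel (nat_lit 152) (nat_lit 0) [nat_lit 8, nat_lit 11, nat_lit 2, nat_lit 8], .rel (nat_lit 142) (nat_lit 0) [nat_lit 2, nat_lit 11, nat_lit 2], .rel (nat_lit 148) (nat_lit 0) [nat_lit 5, nat_lit 11, nat_lit 2, nat_lit 4, nat_lit 5], .rel (nat_lit 138) (nat_lit 2) [nat_lit 0, nat_lit 2, nat_lit 11, nat_lit 0], .rel (nat_lit 140) (nat_lit 0) [nat_lit 1, nat_lit 11, nat_lit 1, nat_lit 4], .rel (nat_lit 145) (nat_lit 4) [nat_lit 7, nat_lit 3, nat_lit 11, nat_lit 3], .rel (nat_lit 205) (nat_lit 2) [nat_lit 12, nat_lit 8, nat_lit 7, nat_lit 2, nat_lit 1, nat_lit 0, nat_lit 11, nat_lit 12], .rel (nat_lit 204) (nat_lit 6) [nat_lit 12, nat_lit 11, nat_lit 0, nat_lit 1, nat_lit 2, nat_lit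 7, nat_lit 8, nat_lit 12], .rel (nat_lit 141) (nat_lit 4) [nat_lit 4, nat_lit 1, nat_lit 11, nat_lit 1], .rel (nat_lit 138) (nat_lit 0) [nat_lit 0, nat_lit 11, nat_lit 0, nat_lit 2], .rel (nat_lit 155) (nat_lit 5) [nat_lit 9, nat_lit 7, nat_lit 2, nat_lit 11, nat_lit 9], .rel (nat_lit 155) (nat_lit 3) [nat_lit 9, nat_lit 11, nat_lit 9, nat_lit 7, nat_lit 2], .rel (nat_lit 149) (nat_lit 5) [nat_lit 5, nat_lit 4, nat_lit 2, nat_lit 11, nat_lit 5], .rel (nat_lit 145) (nat_lit 2) [nat_lit 3, nat_lit 11, nat_lit 7, nat_lit 3], .rel (nat_lit 139) (nat_lit 4) [nat_lit 2, nat_lit 0, nat_lit 11, nat_lit 0], .rel (nat_lit 153) (nat_lit 2) [nat_lit 8, nat_lit 11, nat_lit 8, nat_lit 2], .rel (nat_lit 157) (nat_lit 4) [nat_lit 10, nat_lit 2, nat_lit 11, nat_lit 10], .rel (nat_lit 149) (nat_lit 3) [nat_lit 5, nat_lit 11, nat_lit 5, nat_lit 4, nat_lit 2], .rel (nat_lit 153) (nat_lit 4) [nat_lit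 8, nat_lit 2, nat_lit 11, nat_lit 8], .rel (nat_lit 157) (nat_lit 2) [nat_lit 10, nat_lit 11, nat_lit 10, nat_lit 2], .rel (nat_lit 139) (nat_lit 2) [nat_lit 0, nat_lit 11, nat_lit 2, nat_lit 0], .rel (nat_lit 204) (nat_lit 8) [nat_lit 0, nat_lit 1, nat_lit 2, nat_lit 7, nat_lit 8, nat_lit 12, nat_lit 11, nat_lit 12], .rel (nat_lit 141) (nat_lit 2) [nat_lit 1, nat_lit 11, nat_lit 4, nat_lit 1], .rel (nat_lit 209) (nat_lit 6) [nat_lit 13, nat_lit 2, nat_lit 3, nat_lit 0, nat_lit 1, nat_lit 5, nat_lit 11, nat_lit 13, nat_lit 2, nat_lit 3, nat_lit 0, nat_lit 1, nat_lit 5, nat_lit 11, nat_lit 13, nat_lit 2, nat_lit 3, nat_lit 0, nat_lit 1, nat_lit 5, nat_lit 11, nat_lit 12, nat_lit 9, nat_lit 13, nat_lit 2, nat_lit 3, nat_lit 0, nat_lit 1, nat_lit 5], .rel (nat_lit 208) (nat_lit 2) [nat_lit 5, nat_lit 1, nat_lit 0, nat_lit 3, nat_lit 2, nat_lit 13, nat_lit 11, nat_lit 5, nat_lit 1, nat_lit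 0, nat_lit 3, nat_lit 2, nat_lit 13, nat_lit 11, nat_lit 5, nat_lit 1, nat_lit 0, nat_lit 3, nat_lit 2, nat_lit 13, nat_lit 11, nat_lit 5, nat_lit 1, nat_lit 0, nat_lit 3, nat_lit 2, nat_lit 13, nat_lit 9, nat_lit 12], .rel (nat_lit 205) (nat_lit 0) [nat_lit 12, nat_lit 11, nat_lit 12, nat_lit 8, nat_lit 7, nat_lit 2, nat_lit 1, nat_lit 0], .rel (nat_lit 207) (nat_lit 28) [nat_lit 6, nat_lit 10, nat_lit 1, nat_lit 5, nat_lit 0, nat_lit 2, nat_lit 3, nat_lit 12, nat_lit 10, nat_lit 1, nat_lit 5, nat_lit 0, nat_lit 2, nat_lit 3, nat_lit 12, nat_lit 10, nat_lit 1, nat_lit 5, nat_lit 0, nat_lit 2, nat_lit 3, nat_lit 12, nat_lit 10, nat_lit 1, nat_lit 5, nat_lit 0, nat_lit 2, nat_lit 3, nat_lit 12], .rel (nat_lit 208) (nat_lit 16) [nat_lit 5, nat_lit 1, nat_lit 0, nat_lit 3, nat_lit 2, nat_lit 13, nat_lit 11, nat_lit 5, nat_lit 1, nat_lit 0, nat_lit 3, nat_lit 2, nat_lit 13, nat_lit 9,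 nat_lit 12, nat_lit 11, nat_lit 5, nat_lit 1, nat_lit 0, nat_lit 3, nat_lit 2, nat_lit 13, nat_lit 11, nat_lit 5, nat_lit 1, nat_lit 0, nat_lit 3, nat_lit 2, nat_lit 13], .rel (nat_lit 208) (nat_lit 23) [nat_lit 5, nat_lit 1, nat_lit 0, nat_lit 3, nat_lit 2, nat_lit 13, nat_lit 9, nat_lit 12, nat_lit 11, nat_lit 5, nat_lit 1, nat_lit 0, nat_lit 3, nat_lit 2, nat_lit 13, nat_lit 11, nat_lit 5, nat_lit 1, nat_lit 0, nat_lit 3, nat_lit 2, nat_lit 13, nat_lit 11, nat_lit 5, nat_lit 1, nat_lit 0, nat_lit 3, nat_lit 2, nat_lit 13], .sub (nat_lit 22) [] [], .rel (nat_lit 206) (nat_lit 1) [nat_lit 12, nat_lit 3, nat_lit 2, nat_lit 0, nat_lit 5, nat_lit 1, nat_lit 10, nat_lit 12, nat_lit 3, nat_lit 2, nat_lit 0, nat_lit 5, nat_lit 1, nat_lit 10, nat_lit 12, nat_lit 3, nat_lit 2, nat_lit 0, nat_lit 5, nat_lit 1, nat_lit 10, nat_lit 12, nat_lit 3, nat_lit 2, nat_lit 0, nat_lit 5, nat_lit 1,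 nat_lit 10, nat_lit 6], .rel (nat_lit 208) (nat_lit 9) [nat_lit 5, nat_lit 1, nat_lit 0, nat_lit 3, nat_lit 2, nat_lit 13, nat_lit 11, nat_lit 5, nat_lit 1, nat_lit 0, nat_lit 3, nat_lit 2, nat_lit 13, nat_lit 11, nat_lit 5, nat_lit 1, nat_lit 0, nat_lit 3, nat_lit 2, nat_lit 13, nat_lit 9, nat_lit 12, nat_lit 11, nat_lit 5, nat_lit 1, nat_lit 0, nat_lit 3, nat_lit 2, nat_lit 13], .rel (nat_lit 209) (nat_lit 20) [nat_lit 13, nat_lit 2, nat_lit 3, nat_lit 0, nat_lit 1, nat_lit 5, nat_lit 11, nat_lit 12, nat_lit 9, nat_lit 13, nat_lit 2, nat_lit 3, nat_lit 0, nat_lit 1, nat_lit 5, nat_lit 11, nat_lit 13, nat_lit 2, nat_lit 3, nat_lit 0, nat_lit 1, nat_lit 5, nat_lit 11, nat_lit 13, nat_lit 2, nat_lit 3, nat_lit 0, nat_lit 1, nat_lit 5]],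
  [.rel (nat_lit 24) (nat_lit 0) [nat_lit 12], .defn, .rel (nat_lit 176) (nat_lit 2) [nat_lit 1, nat_lit 13, nat_lit 12, nat_lit 13], .rel (nat_lit 202) (nat_lit 0) [nat_lit 9, nat_lit 12, nat_lit 9, nat_lit 12, nat_lit 9], .rel (nat_lit 172) (nat_lit 2) [nat_lit 1, nat_lit 7, nat_lit 12, nat_lit 7], .rel (nat_lit 174) (nat_lit 0) [nat_lit 8, nat_lit 12, nat_lit 8], .rel (nat_lit 170) (nat_lit 2) [nat_lit 1, nat_lit 6, nat_lit 8, nat_lit 12, nat_lit 6], .rel (nat_lit 168) (nat_lit 0) [nat_lit 5, nat_lit 12, nat_lit 5, nat_lit 8], .rel (nat_lit 166) (nat_lit 0) [nat_lit 4, nat_lit 12, nat_lit 4], .rel (nat_lit 168) (nat_lit 2) [nat_lit 5, nat_lit 8, nat_lit 12, nat_lit 5], .rel (nat_lit 176) (nat_lit 0) [nat_lit 13, nat_lit 12, nat_lit 1, nat_lit 13], .rel (nat_lit 164) (nat_lit 2) [nat_lit 1, nat_lit 3, nat_lit 4, nat_lit 12, nat_lit 3], .rel (nat_lit 170) (nat_lit 0) [nat_lit 6,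 nat_lit 12, nat_lit 1, nat_lit 6, nat_lit 8], .rel (nat_lit 162) (nat_lit 2) [nat_lit 2, nat_lit 4, nat_lit 12, nat_lit 2], .rel (nat_lit 172) (nat_lit 0) [nat_lit 7, nat_lit 12, nat_lit 1, nat_lit 7], .rel (nat_lit 160) (nat_lit 0) [nat_lit 1, nat_lit 12, nat_lit 1], .rel (nat_lit 158) (nat_lit 2) [nat_lit 0, nat_lit 1, nat_lit 12, nat_lit 0], .rel (nat_lit 162) (nat_lit 0) [nat_lit 2, nat_lit 12, nat_lit 2, nat_lit 4], .rel (nat_lit 171) (nat_lit 5) [nat_lit 8, nat_lit 6, nat_lit 1, nat_lit 12, nat_lit 6], .rel (nat_lit 169) (nat_lit 4) [nat_lit 8, nat_lit 5, nat_lit 12, nat_lit 5], .rel (nat_lit 164) (nat_lit 0) [nat_lit 3, nat_lit 12, nat_lit 1, nat_lit 3, nat_lit 4], .rel (nat_lit 204) (nat_lit 7) [nat_lit 11, nat_lit 0, nat_lit 1, nat_lit 2, nat_lit 7, nat_lit 8, nat_lit 12, nat_lit 11], .rel (nat_lit 158) (nat_lit 0) [nat_lit 0, nat_lit 12, nat_lit 0, nat_lit 1], .rel (nat_lit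 163) (nat_lit 4) [nat_lit 4, nat_lit 2, nat_lit 12, nat_lit 2], .rel (nat_lit 165) (nat_lit 5) [nat_lit 4, nat_lit 3, nat_lit 1, nat_lit 12, nat_lit 3], .rel (nat_lit 169) (nat_lit 2) [nat_lit 5, nat_lit 12, nat_lit 8, nat_lit 5], .rel (nat_lit 171) (nat_lit 3) [nat_lit 6, nat_lit 12, nat_lit 8, nat_lit 6, nat_lit 1], .rel (nat_lit 159) (nat_lit 4) [nat_lit 1, nat_lit 0, nat_lit 12, nat_lit 0], .rel (nat_lit 173) (nat_lit 2) [nat_lit 7, nat_lit 12, nat_lit 7, nat_lit 1], .rel (nat_lit 205) (nat_lit 1) [nat_lit 11, nat_lit 12, nat_lit 8, nat_lit 7, nat_lit 2, nat_lit 1, nat_lit 0, nat_lit 11], .rel (nat_lit 173) (nat_lit 4) [nat_lit 7, nat_lit 1, nat_lit 12, nat_lit 7], .rel (nat_lit 177) (nat_lit 2) [nat_lit 13, nat_lit 12, nat_lit 13, nat_lit 1], .rel (nat_lit 165) (nat_lit 3) [nat_lit 3, nat_lit 12, nat_lit 4, nat_lit 3, nat_lit 1], .rel (nat_lit 163) (nat_lit 2) [nat_lit 2, nat_lit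 12, nat_lit 4, nat_lit 2], .rel (nat_lit 207) (nat_lit 6) [nat_lit 10, nat_lit 1, nat_lit 5, nat_lit 0, nat_lit 2, nat_lit 3, nat_lit 12, nat_lit 10, nat_lit 1, nat_lit 5, nat_lit 0, nat_lit 2, nat_lit 3, nat_lit 12, nat_lit 10, nat_lit 1, nat_lit 5, nat_lit 0, nat_lit 2, nat_lit 3, nat_lit 12, nat_lit 11, nat_lit 6, nat_lit 10, nat_lit 1, nat_lit 5, nat_lit 0, nat_lit 2, nat_lit 3], .rel (nat_lit 177) (nat_lit 4) [nat_lit 13, nat_lit 1, nat_lit 12, nat_lit 13], .rel (nat_lit 159) (nat_lit 2) [nat_lit 0, nat_lit 12, nat_lit 1, nat_lit 0], .rel (nat_lit 205) (nat_lit 3) [nat_lit 8, nat_lit 7, nat_lit 2, nat_lit 1, nat_lit 0, nat_lit 11, nat_lit 12, nat_lit 11], .rel (nat_lit 204) (nat_lit 5) [nat_lit 11, nat_lit 12, nat_lit 11, nat_lit 0, nat_lit 1, nat_lit 2, nat_lit 7, nat_lit 8], .rel (nat_lit 206) (nat_lit 2) [nat_lit 3, nat_lit 2, nat_lit 0, nat_lit 5, nat_lit 1, nat_lit 10, nat_lit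 12, nat_lit 3, nat_lit 2, nat_lit 0, nat_lit 5, nat_lit 1, nat_lit 10, nat_lit 12, nat_lit 3, nat_lit 2, nat_lit 0, nat_lit 5, nat_lit 1, nat_lit 10, nat_lit 12, nat_lit 3, nat_lit 2, nat_lit 0, nat_lit 5, nat_lit 1, nat_lit 10, nat_lit 6, nat_lit 11], .rel (nat_lit 206) (nat_lit 9) [nat_lit 3, nat_lit 2, nat_lit 0, nat_lit 5, nat_lit 1, nat_lit 10, nat_lit 12, nat_lit 3, nat_lit 2, nat_lit 0, nat_lit 5, nat_lit 1, nat_lit 10, nat_lit 12, nat_lit 3, nat_lit 2, nat_lit 0, nat_lit 5, nat_lit 1, nat_lit 10, nat_lit 6, nat_lit 11, nat_lit 12, nat_lit 3, nat_lit 2, nat_lit 0, nat_lit 5, nat_lit 1, nat_lit 10], .rel (nat_lit 207) (nat_lit 20) [nat_lit 10, nat_lit 1, nat_lit 5, nat_lit 0, nat_lit 2, nat_lit 3, nat_lit 12, nat_lit 11, nat_lit 6, nat_lit 10, nat_lit 1, nat_lit 5, nat_lit 0, nat_lit 2, nat_lit 3, nat_lit 12, nat_lit 10, nat_lit 1, nat_lit 5, nat_lit 0, nat_lit 2, nat_lit 3,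 nat_lit 12, nat_lit 10, nat_lit 1, nat_lit 5, nat_lit 0, nat_lit 2, nat_lit 3], .rel (nat_lit 209) (nat_lit 28) [nat_lit 9, nat_lit 13, nat_lit 2, nat_lit 3, nat_lit 0, nat_lit 1, nat_lit 5, nat_lit 11, nat_lit 13, nat_lit 2, nat_lit 3, nat_lit 0, nat_lit 1, nat_lit 5, nat_lit 11, nat_lit 13, nat_lit 2, nat_lit 3, nat_lit 0, nat_lit 1, nat_lit 5, nat_lit 11, nat_lit 13, nat_lit 2, nat_lit 3, nat_lit 0, nat_lit 1, nat_lit 5, nat_lit 11], .rel (nat_lit 207) (nat_lit 27) [nat_lit 11, nat_lit 6, nat_lit 10, nat_lit 1, nat_lit 5, nat_lit 0, nat_lit 2, nat_lit 3, nat_lit 12, nat_lit 10, nat_lit 1, nat_lit 5, nat_lit 0, nat_lit 2, nat_lit 3, nat_lit 12, nat_lit 10, nat_lit 1, nat_lit 5, nat_lit 0, nat_lit 2, nat_lit 3, nat_lit 12, nat_lit 10, nat_lit 1, nat_lit 5, nat_lit 0, nat_lit 2, nat_lit 3], .rel (nat_lit 208) (nat_lit 1) [nat_lit 11, nat_lit 5, nat_lit 1, nat_lit 0, nat_lit 3, nat_lit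 2, nat_lit 13, nat_lit 11, nat_lit 5, nat_lit 1, nat_lit 0, nat_lit 3, nat_lit 2, nat_lit 13, nat_lit 11, nat_lit 5, nat_lit 1, nat_lit 0, nat_lit 3, nat_lit 2, nat_lit 13, nat_lit 11, nat_lit 5, nat_lit 1, nat_lit 0, nat_lit 3, nat_lit 2, nat_lit 13, nat_lit 9], .sub (nat_lit 24) [] [], .rel (nat_lit 207) (nat_lit 13) [nat_lit 10, nat_lit 1, nat_lit 5, nat_lit 0, nat_lit 2, nat_lit 3, nat_lit 12, nat_lit 10, nat_lit 1, nat_lit 5, nat_lit 0, nat_lit 2, nat_lit 3, nat_lit 12, nat_lit 11, nat_lit 6, nat_lit 10, nat_lit 1, nat_lit 5, nat_lit 0, nat_lit 2, nat_lit 3, nat_lit 12, nat_lit 10, nat_lit 1, nat_lit 5, nat_lit 0, nat_lit 2, nat_lit 3]],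
  [.rel (nat_lit 26) (nat_lit 0) [nat_lit 13], .defn, .rel (nat_lit 196) (nat_lit 0) [nat_lit 7, nat_lit 13, nat_lit 7, nat_lit 13, nat_lit 7], .rel (nat_lit 176) (nat_lit 1) [nat_lit 12, nat_lit 1, nat_lit 13, nat_lit 12], .rel (nat_lit 194) (nat_lit 1) [nat_lit 9, nat_lit 13, nat_lit 9], .rel (nat_lit 186) (nat_lit 4) [nat_lit 4, nat_lit 8, nat_lit 13, nat_lit 4], .rel (nat_lit 192) (nat_lit 1) [nat_lit 8, nat_lit 13, nat_lit 8], .rel (nat_lit 190) (nat_lit 1) [nat_lit 6, nat_lit 13, nat_lit 6], .rel (nat_lit 184) (nat_lit 4) [nat_lit 3, nat_lit 6, nat_lit 13, nat_lit 3], .rel (nat_lit 188) (nat_lit 1) [nat_lit 5, nat_lit 13, nat_lit 5], .rel (nat_lit 182) (nat_lit 4) [nat_lit 2, nat_lit 5, nat_lit 13, nat_lit 2], .rel (nat_lit 180) (nat_lit 1) [nat_lit 1, nat_lit 13, nat_lit 1], .rel (nat_lit 186) (nat_lit 2) [nat_lit 4, nat_lit 13, nat_lit 4, nat_lit 8], .rel (nat_lit 184) (nat_lit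 2) [nat_lit 3, nat_lit 13, nat_lit 3, nat_lit 6], .rel (nat_lit 176) (nat_lit 4) [nat_lit 12, nat_lit 13, nat_lit 12, nat_lit 1], .rel (nat_lit 178) (nat_lit 1) [nat_lit 0, nat_lit 13, nat_lit 0], .rel (nat_lit 182) (nat_lit 2) [nat_lit 2, nat_lit 13, nat_lit 2, nat_lit 5], .rel (nat_lit 177) (nat_lit 3) [nat_lit 12, nat_lit 13, nat_lit 1, nat_lit 12], .rel (nat_lit 187) (nat_lit 2) [nat_lit 8, nat_lit 4, nat_lit 13, nat_lit 4], .rel (nat_lit 185) (nat_lit 2) [nat_lit 6, nat_lit 3, nat_lit 13, nat_lit 3], .rel (nat_lit 183) (nat_lit 2) [nat_lit 5, nat_lit 2, nat_lit 13, nat_lit 2], .rel (nat_lit 177) (nat_lit 0) [nat_lit 1, nat_lit 12, nat_lit 13, nat_lit 12], .rel (nat_lit 187) (nat_lit 0) [nat_lit 4, nat_lit 13, nat_lit 8, nat_lit 4], .rel (nat_lit 185) (nat_lit 0) [nat_lit 3, nat_lit 13, nat_lit 6, nat_lit 3], .rel (nat_lit 183) (nat_lit 0) [nat_lit 2, nat_lit 13, nat_lit 5, nat_lit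 2], .rel (nat_lit 198) (nat_lit 4) [nat_lit 7, nat_lit 8, nat_lit 10, nat_lit 8, nat_lit 7, nat_lit 13, nat_lit 7, nat_lit 8, nat_lit 10, nat_lit 8, nat_lit 7, nat_lit 13, nat_lit 7, nat_lit 8, nat_lit 10, nat_lit 8, nat_lit 7], .rel (nat_lit 209) (nat_lit 7) [nat_lit 2, nat_lit 3, nat_lit 0, nat_lit 1, nat_lit 5, nat_lit 11, nat_lit 13, nat_lit 2, nat_lit 3, nat_lit 0, nat_lit 1, nat_lit 5, nat_lit 11, nat_lit 13, nat_lit 2, nat_lit 3, nat_lit 0, nat_lit 1, nat_lit 5, nat_lit 11, nat_lit 12, nat_lit 9, nat_lit 13, nat_lit 2, nat_lit 3, nat_lit 0, nat_lit 1, nat_lit 5, nat_lit 11], .rel (nat_lit 209) (nat_lit 21) [nat_lit 2, nat_lit 3, nat_lit 0, nat_lit 1, nat_lit 5, nat_lit 11, nat_lit 12, nat_lit 9, nat_lit 13, nat_lit 2, nat_lit 3, nat_lit 0, nat_lit 1, nat_lit 5, nat_lit 11, nat_lit 13, nat_lit 2, nat_lit 3, nat_lit 0, nat_lit 1, nat_lit 5, nat_lit 11, nat_lit 13, nat_lit 2,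 nat_lit 3, nat_lit 0, nat_lit 1, nat_lit 5, nat_lit 11], .rel (nat_lit 208) (nat_lit 15) [nat_lit 11, nat_lit 5, nat_lit 1, nat_lit 0, nat_lit 3, nat_lit 2, nat_lit 13, nat_lit 11, nat_lit 5, nat_lit 1, nat_lit 0, nat_lit 3, nat_lit 2, nat_lit 13, nat_lit 9, nat_lit 12, nat_lit 11, nat_lit 5, nat_lit 1, nat_lit 0, nat_lit 3, nat_lit 2, nat_lit 13, nat_lit 11, nat_lit 5, nat_lit 1, nat_lit 0, nat_lit 3, nat_lit 2], .rel (nat_lit 208) (nat_lit 8) [nat_lit 11, nat_lit 5, nat_lit 1, nat_lit 0, nat_lit 3, nat_lit 2, nat_lit 13, nat_lit 11, nat_lit 5, nat_lit 1, nat_lit 0, nat_lit 3, nat_lit 2, nat_lit 13, nat_lit 11, nat_lit 5, nat_lit 1, nat_lit 0, nat_lit 3, nat_lit 2, nat_lit 13, nat_lit 9, nat_lit 12, nat_lit 11, nat_lit 5, nat_lit 1, nat_lit 0, nat_lit 3, nat_lit 2], .rel (nat_lit 209) (nat_lit 0) [nat_lit 2, nat_lit 3, nat_lit 0, nat_lit 1, nat_lit 5, nat_lit 11, nat_lit 13, nat_lit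 2, nat_lit 3, nat_lit 0, nat_lit 1, nat_lit 5, nat_lit 11, nat_lit 13, nat_lit 2, nat_lit 3, nat_lit 0, nat_lit 1, nat_lit 5, nat_lit 11, nat_lit 13, nat_lit 2, nat_lit 3, nat_lit 0, nat_lit 1, nat_lit 5, nat_lit 11, nat_lit 12, nat_lit 9]]]
noncomputable def cb14 : TCert2 := ⟨29155, 29155, 30834, 14, 32767, 524287, 3, Tb14, Ib14, Db14, Eb14, Jb14, Wb14, [[nat_lit 0],
  [nat_lit 1],
  [nat_lit 2],
  [nat_lit 3],
  [nat_lit 4],
  [nat_lit 5],
  [nat_lit 6],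
  [nat_lit 7],
  [nat_lit 8],
  [nat_lit 9],
  [nat_lit 10],
  [nat_lit 11],
  [nat_lit 12]], RLb14⟩

end H1.HdT.S
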